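import Cfsg.Agent.Lib.CharDegree.SmallSimple.Degrees
import Cfsg.Agent.Lib.Core.Cores
import Cfsg.Agent.Lib.Recog.SimpleSixty
import Cfsg.Agent.Lib.ClassSizes.AlternatingAut
import Cfsg.Agent.Lib.Perm.PrimeOrderCount
import Cfsg.Agent.S0252
import Cfsg.Agent.Lib.Char.CliffordRestrict

/-!
# Reduction to a simple group
-/

set_option autoImplicit false

namespace CfsgLib.CharDegree.SmallSimple

open Cfsg CfsgLib.Char CfsgLib.CharDegree Subgroup
open CfsgLib.Recog.LThreeThree5616 (card_inf_centralizer_modEq isPGroup_zpowers)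
open scoped Pointwise commutatorElement

section Basic

variable {G : Type*} [Group G] [Finite G]

/-- A normal subgroup with a single Sylow subgroup contributes a normal subgroup. -/
theorem exists_normal_of_unique {q : ℕ} [Fact q.Prime] (N : Subgroup G) [hN : N.Normal]
    (P : Sylow q N) (h : (P : Subgroup N).Normal) :
    ((P : Subgroup N).map N.subtype).Normal := by
  haveI := Sylow.unique_of_normal P h
  refine ⟨fun a ha g => ?_⟩
  obtain ⟨w, hw, rfl⟩ := ha
  have hwo : ∃ k, orderOf w = q ^ k := by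
    obtain ⟨k, hk⟩ := (IsPGroup.iff_orderOf.1 P.2) ⟨w, hw⟩
    exact ⟨k, (orderOf_mk _ _).symm.trans hk⟩
  obtain ⟨k, hk⟩ := hwo
  set w' : N := ⟨g * (w : G) * g⁻¹, hN.conj_mem _ w.2 g⟩ with hw'
  have hk' : orderOf w' = q ^ k := by
    rw [hw', orderOf_mk, CfsgLib.Perm.orderOf_conj_eq, orderOf_coe, hk]
  obtain ⟨P', hP'⟩ := CfsgLib.Perm.exists_mem_sylow_of_orderOf hk'
  rw [Subsingleton.elim P' P] at hP'
  exact ⟨w', hP', rfl⟩

/-- The structure above the largest normal subgroup of order prime to `r`. -/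
theorem exists_section {r : ℕ} (hr : r.Prime) (hd : r ∣ Nat.card G) (hd2 : ¬ r * r ∣ Nat.card G) :
    ∃ T : Subgroup (G ⧸ pPrimeCore r G), T.Normal ∧ IsSimpleGroup T ∧ r ∣ Nat.card T ∧
      ¬ r ∣ Nat.card (pPrimeCore r G) ∧
      ∀ D : Subgroup (G ⧸ pPrimeCore r G), D.Normal → ¬ r ∣ Nat.card D → D = ⊥ := by
  haveI : Fact r.Prime := ⟨hr⟩
  set N := pPrimeCore r G with hNdef
  have hN : ¬ r ∣ Nat.card N := fun h =>
    hr.coprime_iff_not_dvd.1 (CfsgLib.Core.coprime_card_pPrimeCore r G).symm h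
  have hmax : ∀ D : Subgroup (G ⧸ N), D.Normal → ¬ r ∣ Nat.card D → D = ⊥ := by
    intro D hD hDr
    set M := D.comap (QuotientGroup.mk' N) with hM
    haveI : M.Normal := hD.comap _
    have hle : N ≤ M := fun x hx => by
      rw [hM, mem_comap, QuotientGroup.mk'_apply, (QuotientGroup.eq_one_iff x).2 hx]; exact one_mem D
    have hcard : Nat.card M = Nat.card N * Nat.card D := by
      have h1 := M.card_mul_index
      have h2 := Subgroup.card_eq_card_quotient_mul_card_subgroup N
      rw [hM, index_comap_of_surjective _ (QuotientGroup.mk'_surjective N), ← hM] at h1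
      have h3 := D.card_mul_index
      apply Nat.eq_of_mul_eq_mul_right (Nat.pos_of_ne_zero D.index_ne_zero_of_finite)
      rw [h1, mul_assoc, h3, h2, mul_comm]
    have hMN : M ≤ N := CfsgLib.Core.le_pPrimeCore (by
      rw [hcard, Nat.coprime_comm]
      exact Nat.Coprime.mul_right (hr.coprime_iff_not_dvd.2 hN) (hr.coprime_iff_not_dvd.2 hDr))
    have := congrArg (fun K : Subgroup G => Nat.card K) (le_antisymm hMN hle)
    simp only [hcard] at this
    exact Subgroup.card_eq_one.1 (Nat.eq_of_mul_eq_mul_left Nat.card_pos (this.trans (mul_one _).symm))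
  set Q := G ⧸ N with hQdef
  have hQ : Nat.card G = Nat.card Q * Nat.card N := Subgroup.card_eq_card_quotient_mul_card_subgroup N
  have hrQ : r ∣ Nat.card Q := by
    rw [hQ] at hd
    exact ((hr.dvd_mul).1 hd).resolve_right hN
  have hrQ2 : ¬ r * r ∣ Nat.card Q := fun h => hd2 (h.trans ⟨_, hQ⟩)
  haveI : Nontrivial Q := Finite.one_lt_card_iff_nontrivial.1
    (lt_of_lt_of_le hr.one_lt (Nat.le_of_dvd Nat.card_pos hrQ))
  classical
  have hex : ∃ a, ∃ T : Subgroup Q, T.Normal ∧ T ≠ ⊥ ∧ Nat.card T = a :=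
    ⟨_, ⊤, inferInstance, top_ne_bot, rfl⟩
  obtain ⟨T, hTn, hT, hTc⟩ := Nat.find_spec hex
  have hmin : ∀ K : Subgroup Q, K.Normal → K ≠ ⊥ → K ≤ T → K = T := fun K hK hK0 hle =>
    Subgroup.eq_of_le_of_card_ge hle (hTc ▸ Nat.find_min' hex ⟨K, hK, hK0, rfl⟩)
  have hrT : r ∣ Nat.card T := by
    by_contra h
    exact hT (hmax T hTn h)
  refine ⟨T, hTn, ?_, hrT, hN, hmax⟩
  haveI : Nontrivial T := (Subgroup.nontrivial_iff_ne_bot T).2 hT
  refine ⟨fun L hL => ?_⟩
  by_cases hrL : r ∣ Nat.card L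
  · right
    -- the elements of order `r` generate `T` and lie in `L`
    have hmemL : ∀ w : T, orderOf w = r → w ∈ L := by
      intro w hw
      obtain ⟨z, hz⟩ := exists_prime_orderOf_dvd_card' (G := L) r hrL
      obtain ⟨S, hS⟩ := CfsgLib.Perm.exists_mem_sylow_of_orderOf (p := r) (k := 1) (g := (z : T))
        (by rw [orderOf_coe, hz, pow_one])
      obtain ⟨S', hS'⟩ := CfsgLib.Perm.exists_mem_sylow_of_orderOf (p := r) (k := 1) (g := w)
        (by rw [hw, pow_one])
      have hSc : Nat.card (S : Subgroup T) = r := by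
        have hd' : ¬ r * r ∣ Nat.card T := fun h => hrQ2 (h.trans T.card_subgroup_dvd_card)
        obtain ⟨m, hm⟩ := hrT
        rw [CfsgLib.Perm.sylow_card_eq S (k := 1) (m := m) (by rw [hm, pow_one])
          (fun h => hd' (hm ▸ Nat.mul_dvd_mul_left r h)), pow_one]
      have hSL : (S : Subgroup T) ≤ L := by
        have hz1 : (z : T) ≠ 1 := fun e => by
          have h1 : orderOf ((z : L) : T) = 1 := by rw [e, orderOf_one]
          rw [orderOf_coe, hz] at h1
          exact hr.ne_one h1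
        rw [← CfsgLib.Recog.LThreeThree5616.zpowers_eq_of_card hSc hS hz1, zpowers_le]
        exact z.2
      obtain ⟨c, hc⟩ := MulAction.exists_smul_eq T S S'
      rw [← hc, Sylow.coe_subgroup_smul, mem_smul_pointwise_iff_exists] at hS'
      obtain ⟨s, hs, rfl⟩ := hS'
      exact hL.conj_mem s (hSL hs) c
    set K := closure {x : Q | x ∈ T ∧ orderOf x = r} with hK
    haveI hKn : K.Normal := by
      refine ⟨fun a ha g => ?_⟩
      have hmap : K.map (MulAut.conj g).toMonoidHom ≤ K := by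
        rw [hK, MonoidHom.map_closure, closure_le]
        rintro _ ⟨x, ⟨hxT, hxo⟩, rfl⟩
        refine subset_closure ⟨hTn.conj_mem x hxT g, ?_⟩
        show orderOf (g * x * g⁻¹) = r
        rw [CfsgLib.Perm.orderOf_conj_eq, hxo]
      exact hmap (mem_map_of_mem _ ha)
    have hKT : K ≤ T := (closure_le T).2 fun x hx => hx.1
    have hK0 : K ≠ ⊥ := by
      obtain ⟨z, hz⟩ := exists_prime_orderOf_dvd_card' (G := T) r hrT
      intro h
      have hzK : (z : Q) ∈ K := subset_closure ⟨z.2, by rw [orderOf_coe, hz]⟩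
      rw [h, mem_bot] at hzK
      have h1 : orderOf (z : Q) = 1 := by rw [hzK, orderOf_one]
      rw [orderOf_coe, hz] at h1
      exact hr.ne_one h1
    have hKL : K ≤ L.map T.subtype := (closure_le _).2 fun x hx =>
      ⟨⟨x, hx.1⟩, hmemL _ (by rw [orderOf_mk]; exact hx.2), rfl⟩
    rw [eq_top_iff]
    intro t _
    obtain ⟨t', ht', e⟩ := hKL ((hmin K hKn hK0 hKT).symm ▸ t.2 : (t : Q) ∈ K)
    rwa [T.subtype_injective (e : T.subtype t' = T.subtype t)] at ht'
  · left
    haveI := hL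
    have hle : L ≤ pPrimeCore r T := CfsgLib.Core.le_pPrimeCore
      (Nat.coprime_comm.1 (hr.coprime_iff_not_dvd.2 hrL))
    have hcore : pPrimeCore r T = ⊥ := by
      haveI := hTn
      have h : (pPrimeCore r T).map T.subtype = ⊥ := hmax _ inferInstance (by
        rw [card_map_of_injective T.subtype_injective]
        exact fun h => hr.coprime_iff_not_dvd.1 (CfsgLib.Core.coprime_card_pPrimeCore r T).symm h)
      exact (map_eq_bot_iff_of_injective _ T.subtype_injective).1 h
    exact eq_bot_iff.2 (hcore ▸ hle)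

end Basic

section Cyclic

/-- For each order the largest prime and the prime with a possible faithful action. -/
def cyclicTable : List (ℕ × ℕ × ℕ) :=
  [(168, 7, 2), (360, 5, 0), (504, 7, 2), (660, 11, 0), (1092, 13, 0), (2448, 17, 0), (2520, 7, 2),
    (3420, 19, 0), (4080, 17, 0), (5616, 13, 3)]

theorem table_facts : ∀ e ∈ cyclicTable, e.2.1 ∣ e.1 ∧ e.1 / e.2.1 % e.2.1 ≠ 0 ∧
    e.1 / e.2.1 ∣ (2 * 3 * 5 * 7) ^ 6 ∧
    (∀ q ∈ [2, 3, 5, 7], ¬ q ^ 6 ∣ e.1 / e.2.1) ∧
    (e.2.2 ≠ 0 → e.1 / e.2.2 ^ 3 % e.2.2 ≠ 0) ∧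
    ∀ q ∈ [2, 3, 5, 7], ∀ j ∈ List.range 6, ∀ i ∈ List.range j, q ^ j ∣ e.1 / e.2.1 →
      q ^ j % e.2.1 = q ^ i % e.2.1 → q = e.2.2 ∧ j = 3 ∧ i = 0 := by
  decide +kernel

variable {G : Type*} [Group G] [Finite G]

/-- No normal section of order `r` over a subgroup of order prime to `r`. -/
theorem false_of_cyclic {r p : ℕ} (hr : r.Prime) (htab : (Nat.card G, r, p) ∈ cyclicTable)
    (hrG : r ∈ degreePrimes G) (hpG : p ≠ 0 → p ∈ degreePrimes G)
    (N M : Subgroup G) [N.Normal] [hMn : M.Normal] (hle : N ≤ M) (hcM : Nat.card M = r * Nat.card N)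
    (hN : ¬ r ∣ Nat.card N) : False := by
  haveI : Fact r.Prime := ⟨hr⟩
  obtain ⟨hrn, hr2, hprimes, h6, hp3, hkey⟩ := table_facts _ htab
  dsimp only at hrn hr2 hprimes h6 hp3 hkey
  set k := Nat.card G / r with hk
  have hkG : Nat.card G = r * k := (Nat.mul_div_cancel' hrn).symm
  have hNk : Nat.card N ∣ k := by
    have h := M.card_subgroup_dvd_card
    rw [hcM, hkG] at h
    exact (Nat.mul_dvd_mul_iff_left hr.pos).1 h
  obtain ⟨x, hx⟩ := exists_prime_orderOf_dvd_card' (G := M) r ⟨_, hcM⟩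
  have hxo : orderOf (x : G) = r := by rw [orderOf_coe, hx]
  have hxN : ∀ i : ℤ, (x : G) ^ i ∈ N → (x : G) ^ i = 1 := fun i hi => by
    have h1 := Subgroup.orderOf_dvd_natCard N hi
    have h2 := Subgroup.orderOf_dvd_natCard (zpowers (x : G)) (zpow_mem (mem_zpowers (x : G)) i)
    rw [Nat.card_zpowers, hxo] at h2
    rcases (Nat.dvd_prime hr).1 h2 with e | e
    · exact orderOf_eq_one_iff.1 e
    · rw [e] at h1; exact absurd h1 hN
  have hdec : ∀ m ∈ M, ∃ u ∈ N, ∃ i : ℤ, m = u * (x : G) ^ i := by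
    have hJM : N ⊔ zpowers (x : G) ≤ M := sup_le hle (zpowers_le.2 x.2)
    have d1 := Subgroup.card_dvd_of_le (le_sup_left : N ≤ N ⊔ zpowers (x : G))
    have d2 : r ∣ Nat.card (N ⊔ zpowers (x : G) : Subgroup G) := by
      have := Subgroup.card_dvd_of_le (le_sup_right : zpowers (x : G) ≤ N ⊔ zpowers (x : G))
      rwa [Nat.card_zpowers, hxo] at this
    have d3 := (hr.coprime_iff_not_dvd.2 hN).mul_dvd_of_dvd_of_dvd d2 d1
    have hJ : N ⊔ zpowers (x : G) = M :=
      Subgroup.eq_of_le_of_card_ge hJM (hcM ▸ Nat.le_of_dvd Nat.card_pos d3)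
    intro m hm
    rw [← hJ] at hm
    obtain ⟨u, hu, w, hw, e⟩ := mem_sup_of_normal_left.1 hm
    obtain ⟨i, rfl⟩ := mem_zpowers_iff.1 hw
    exact ⟨u, hu, i, e.symm⟩
  -- the element of order `r` does not centralize `N`
  have hnc : ∃ u ∈ N, u * (x : G) ≠ (x : G) * u := by
    by_contra hcon
    push Not at hcon
    haveI : (zpowers (x : G)).Normal := by
      refine ⟨fun a ha g => ?_⟩
      have hgx : g * (x : G) * g⁻¹ ∈ zpowers (x : G) := by
        obtain ⟨u, hu, i, e⟩ := hdec _ (hMn.conj_mem _ x.2 g)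
        have ho : (g * (x : G) * g⁻¹) ^ r = 1 := by
          rw [conj_pow, ← hxo, pow_orderOf_eq_one, mul_one, mul_inv_cancel]
        rw [e, ((show Commute u (x : G) from hcon u hu).zpow_right i).mul_pow] at ho
        have hxi : ((x : G) ^ i) ^ r = 1 := by
          rw [← zpow_natCast, ← zpow_mul, mul_comm, zpow_mul, zpow_natCast, ← hxo, pow_orderOf_eq_one,
            one_zpow]
        rw [hxi, mul_one] at ho
        have h1 : orderOf u ∣ r := orderOf_dvd_of_pow_eq_one ho
        have hu1 : u = 1 := by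
          rcases (Nat.dvd_prime hr).1 h1 with e' | e'
          · exact orderOf_eq_one_iff.1 e'
          · exact absurd (e' ▸ Subgroup.orderOf_dvd_natCard N hu) hN
        rw [e, hu1, one_mul]; exact zpow_mem (mem_zpowers _) i
      exact CfsgLib.Recog.LThreeThree5616.conj_mem_zpowers hgx a ha
    refine false_of_abelian_normal (zpowers (x : G)) (fun a ha b hb => ?_) ?_ hrG
    · obtain ⟨i, rfl⟩ := mem_zpowers_iff.1 ha
      obtain ⟨j, rfl⟩ := mem_zpowers_iff.1 hb
      rw [← zpow_add, ← zpow_add, add_comm]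
    · have := (zpowers (x : G)).card_mul_index
      rw [Nat.card_zpowers, hxo, hkG] at this
      rw [Nat.eq_of_mul_eq_mul_left hr.pos this]
      exact fun h => hr2 (Nat.mod_eq_zero_of_dvd h)
  -- invariant Sylow subgroups
  have hq : ∀ q : ℕ, q.Prime → q ∣ Nat.card N → q ∈ [2, 3, 5, 7] := by
    intro q hq hqN
    have h := hq.dvd_of_dvd_pow ((hqN.trans hNk).trans hprimes)
    rcases hq.dvd_mul.1 h with h | h
    · rcases hq.dvd_mul.1 h with h | h
      · rcases hq.dvd_mul.1 h with h | h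
        · simp [(Nat.prime_dvd_prime_iff_eq hq Nat.prime_two).1 h]
        · simp [(Nat.prime_dvd_prime_iff_eq hq Nat.prime_three).1 h]
      · simp [(Nat.prime_dvd_prime_iff_eq hq (by norm_num : Nat.Prime 5)).1 h]
    · simp [(Nat.prime_dvd_prime_iff_eq hq (by norm_num : Nat.Prime 7)).1 h]
  have hcount : ∀ (q : ℕ) (W : Subgroup G) (j : ℕ), q.Prime → q ∣ Nat.card N →
      (∀ w ∈ W, (x : G) * w * (x : G)⁻¹ ∈ W) → Nat.card W = q ^ j → W ≤ N →
      W ≤ centralizer ({(x : G)} : Set G) ∨ q = p ∧ j = 3 ∧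
        Nat.card (W ⊓ centralizer ({(x : G)} : Set G) : Subgroup G) = 1 := by
    intro q W j hqp hqN hinv hW hWN
    have hm := card_inf_centralizer_modEq (p := r) W hinv (isPGroup_zpowers (k := 1) (by rw [hxo, pow_one]))
    have hd := Subgroup.card_dvd_of_le (inf_le_left : W ⊓ centralizer ({(x : G)} : Set G) ≤ W)
    rw [hW] at hd hm
    obtain ⟨i, hij, hi⟩ := (Nat.dvd_prime_pow hqp).1 hd
    rcases eq_or_lt_of_le hij with rfl | hlt
    · exact Or.inl (inf_eq_left.1 (Subgroup.eq_of_le_of_card_ge inf_le_left (by rw [hW, hi])))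
    have hWk : q ^ j ∣ k := hW ▸ (Subgroup.card_dvd_of_le hWN).trans hNk
    have hj6 : j < 6 := by
      by_contra h
      exact h6 q (hq q hqp hqN) ((pow_dvd_pow q (by omega : 6 ≤ j)).trans hWk)
    rw [hi] at hm
    obtain ⟨e1, e2, e3⟩ := hkey q (hq q hqp hqN) j (List.mem_range.2 hj6) i (List.mem_range.2 hlt) hWk hm
    exact Or.inr ⟨e1, e2, by rw [hi, e3, pow_zero]⟩
  have hsyl : ∀ q : ℕ, q.Prime → ∃ S : Sylow q N, ∀ w ∈ (S : Subgroup N).map N.subtype,
      (x : G) * w * (x : G)⁻¹ ∈ (S : Subgroup N).map N.subtype := by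
    intro q hqp
    haveI : Fact q.Prime := ⟨hqp⟩
    obtain ⟨S₀⟩ := (inferInstance : Nonempty (Sylow q N))
    have hndvd : ¬ r ∣ Nat.card (Sylow q N) := fun h =>
      hN ((h.trans (Sylow.card_dvd_index S₀)).trans (Subgroup.index_dvd_card _))
    let φ : zpowers (x : G) →* MulAut N := MulAut.conjNormal.comp (zpowers (x : G)).subtype
    letI : MulDistribMulAction (zpowers (x : G)) N := MulDistribMulAction.compHom N φ
    obtain ⟨S, hS⟩ := (isPGroup_zpowers (p := r) (k := 1) (x := (x : G))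
      (by rw [hxo, pow_one])).nonempty_fixed_point_of_prime_not_dvd_card (Sylow q N) hndvd
    refine ⟨S, ?_⟩
    rintro _ ⟨w, hw, rfl⟩
    have hS' := hS ⟨(x : G), mem_zpowers _⟩
    refine ⟨(⟨(x : G), mem_zpowers _⟩ : zpowers (x : G)) • w, ?_, rfl⟩
    have hmem := Subgroup.smul_mem_pointwise_smul w (⟨(x : G), mem_zpowers _⟩ : zpowers (x : G))
      (S : Subgroup N) hw
    have hS'' : (⟨(x : G), mem_zpowers _⟩ : zpowers (x : G)) • (S : Subgroup N) = S :=
      congrArg (fun S : Sylow q N => (S : Subgroup N)) hS'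
    exact hS'' ▸ hmem
  have hcent : ∀ q : ℕ, q.Prime → q ≠ p → ∀ m, q ^ m ∣ Nat.card N →
      q ^ m ∣ Nat.card (N ⊓ centralizer ({(x : G)} : Set G) : Subgroup G) := by
    intro q hqp hqne m hm
    rcases Nat.eq_zero_or_pos m with rfl | hm0
    · simp
    haveI : Fact q.Prime := ⟨hqp⟩
    obtain ⟨S, hS⟩ := hsyl q hqp
    obtain ⟨j, hj⟩ := IsPGroup.iff_card.1 S.2
    have hc : Nat.card ((S : Subgroup N).map N.subtype : Subgroup G) = q ^ j := by
      rw [card_map_of_injective N.subtype_injective, hj]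
    rcases hcount q _ j hqp ((dvd_pow_self q hm0.ne').trans hm) hS hc (map_subtype_le _) with h | ⟨h, -⟩
    · have hd := Subgroup.card_dvd_of_le (le_inf (map_subtype_le (S : Subgroup N)) h)
      rw [card_map_of_injective N.subtype_injective] at hd
      exact (S.pow_dvd_card_of_pow_dvd_card hm).trans hd
    · exact absurd h hqne
  set C₀ := N ⊓ centralizer ({(x : G)} : Set G) with hC₀
  obtain ⟨u₀, hu₀, hu₀c⟩ := hnc
  have hC₀N : Nat.card C₀ < Nat.card N := by
    refine lt_of_le_of_ne (Nat.le_of_dvd Nat.card_pos (Subgroup.card_dvd_of_le inf_le_left)) fun e => hu₀c ?_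
    have h := inf_eq_left.1 (Subgroup.eq_of_le_of_card_ge (inf_le_left : C₀ ≤ N) e.ge) hu₀
    exact mem_centralizer_singleton_iff.1 h
  -- the special prime
  have hp : p.Prime ∧ p ∣ Nat.card N := by
    by_contra hcon
    refine absurd (Nat.le_of_dvd Nat.card_pos ((Nat.dvd_iff_prime_pow_dvd_dvd _ _).2 ?_)) (not_le.2 hC₀N)
    intro q m hqp hm
    by_cases e : q = p
    · rcases Nat.eq_zero_or_pos m with rfl | hm0
      · simp
      exact absurd ⟨e ▸ hqp, e ▸ (dvd_pow_self q hm0.ne').trans hm⟩ hcon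
    · exact hcent q hqp e m hm
  obtain ⟨hpp, hpN⟩ := hp
  haveI : Fact p.Prime := ⟨hpp⟩
  obtain ⟨S, hS⟩ := hsyl p hpp
  set W := (S : Subgroup N).map N.subtype with hWdef
  obtain ⟨j, hj⟩ := IsPGroup.iff_card.1 S.2
  have hWc : Nat.card W = p ^ j := by rw [hWdef, card_map_of_injective N.subtype_injective, hj]
  rcases hcount p W j hpp hpN hS hWc (map_subtype_le _) with hWC | ⟨-, hj3, hWfix⟩
  · refine absurd (Nat.le_of_dvd Nat.card_pos ((Nat.dvd_iff_prime_pow_dvd_dvd _ _).2 ?_)) (not_le.2 hC₀N)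
    intro q m hqp hm
    by_cases e : q = p
    · subst e
      have hd := Subgroup.card_dvd_of_le (le_inf (map_subtype_le (S : Subgroup N)) hWC)
      rw [card_map_of_injective N.subtype_injective] at hd
      exact (S.pow_dvd_card_of_pow_dvd_card hm).trans hd
    · exact hcent q hqp e m hm
  subst hj3
  have hWbot : W ⊓ centralizer ({(x : G)} : Set G) = ⊥ := Subgroup.card_eq_one.1 hWfix
  have hWN : W ≤ N := map_subtype_le _
  -- `N` is the product of `W` and `C₀`
  have hprod : ∀ u ∈ N, ∃ s ∈ W, ∃ c ∈ C₀, u = s * c := by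
    have hinj : Function.Injective (fun a : W × C₀ => (⟨(a.1 : G) * a.2, mul_mem (hWN a.1.2) a.2.2.1⟩ : N)) := by
      rintro ⟨a, b⟩ ⟨a', b'⟩ h
      have h' : (a : G) * b = a' * b' := congrArg Subtype.val h
      have h1 : (a' : G)⁻¹ * a = b' * (b : G)⁻¹ := by
        rw [inv_mul_eq_iff_eq_mul, ← mul_assoc, ← h', mul_inv_cancel_right]
      have h2 : (a' : G)⁻¹ * a ∈ W ⊓ centralizer ({(x : G)} : Set G) :=
        mem_inf.2 ⟨mul_mem (inv_mem a'.2) a.2, h1 ▸ mul_mem (mem_inf.1 b'.2).2 (inv_mem (mem_inf.1 b.2).2)⟩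
      rw [hWbot, mem_bot, inv_mul_eq_one] at h2
      have hb : (b : G) = b' := by rw [← h2] at h'; exact mul_left_cancel h'
      exact Prod.ext (Subtype.ext h2.symm) (Subtype.ext hb)
    have hge : Nat.card N ≤ Nat.card (W × C₀) := by
      rw [Nat.card_prod]
      refine Nat.le_of_dvd (Nat.mul_pos Nat.card_pos Nat.card_pos)
        ((Nat.dvd_iff_prime_pow_dvd_dvd _ _).2 fun q m hqp hm => ?_)
      by_cases e : q = p
      · subst e
        refine Dvd.dvd.mul_right ?_ _
        rw [hWdef, card_map_of_injective N.subtype_injective]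
        exact S.pow_dvd_card_of_pow_dvd_card hm
      · exact Dvd.dvd.mul_left (hcent q hqp e m hm) _
    have hbij := (Nat.bijective_iff_injective_and_card _).2
      ⟨hinj, le_antisymm (Nat.card_le_card_of_injective _ hinj) hge⟩
    intro u hu
    obtain ⟨⟨s, c⟩, h⟩ := hbij.2 ⟨u, hu⟩
    exact ⟨s, s.2, c, c.2, (congrArg Subtype.val h).symm⟩
  -- the normal closure of `x` inside `M`
  have hxW : (x : G) ∈ normalizer (W : Set G) := mem_normalizer_fintype (S := (W : Set G)) hS
  set K := closure {y : G | ∃ m ∈ M, y = m * (x : G) * m⁻¹} with hK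
  have hKW : ∀ y ∈ K, ∃ s ∈ W, ∃ i : ℤ, y = s * (x : G) ^ i := by
    have hle' : K ≤ W ⊔ zpowers (x : G) := by
      rw [hK, closure_le]
      rintro _ ⟨m, hm, rfl⟩
      obtain ⟨u, hu, i, rfl⟩ := hdec m hm
      obtain ⟨s, hs, c, hc, rfl⟩ := hprod u hu
      have hcx : Commute c (x : G) := mem_centralizer_singleton_iff.1 hc.2
      have : s * c * (x : G) ^ i * x * (s * c * (x : G) ^ i)⁻¹ = s * x * s⁻¹ := by
        calc _ = s * (c * ((x : G) ^ i * x * ((x : G) ^ i)⁻¹) * c⁻¹) * s⁻¹ := by group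
          _ = s * x * s⁻¹ := by
            rw [show (x : G) ^ i * x * ((x : G) ^ i)⁻¹ = x by group, hcx.eq, mul_inv_cancel_right]
      rw [SetLike.mem_coe, this]
      exact mul_mem (mul_mem (mem_sup_left hs) (mem_sup_right (mem_zpowers _)))
        (inv_mem (mem_sup_left hs))
    intro y hy
    have h := hle' hy
    rw [← SetLike.mem_coe, coe_mul_of_right_le_normalizer_left W (zpowers (x : G)) (zpowers_le.2 hxW)] at h
    obtain ⟨s, hs, w, hw, rfl⟩ := h
    obtain ⟨i, rfl⟩ := mem_zpowers_iff.1 hw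
    exact ⟨s, hs, i, rfl⟩
  set D := K ⊓ N with hD
  have hDW : D ≤ W := by
    rintro y ⟨hyK, hyN⟩
    obtain ⟨s, hs, i, rfl⟩ := hKW y hyK
    have hi : (x : G) ^ i ∈ N := by
      have := mul_mem (inv_mem (hWN hs)) hyN
      rwa [inv_mul_cancel_left] at this
    rw [hxN i hi, mul_one]; exact hs
  have hDM : ∀ m ∈ M, ∀ d ∈ D, m * d * m⁻¹ ∈ D := by
    intro m hm d hd
    refine ⟨?_, ‹N.Normal›.conj_mem d hd.2 m⟩
    have hmap : K.map (MulAut.conj m).toMonoidHom ≤ K := by
      rw [hK, MonoidHom.map_closure, closure_le]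
      rintro _ ⟨_, ⟨m', hm', rfl⟩, rfl⟩
      refine subset_closure ⟨m * m', mul_mem hm hm', ?_⟩
      show m * (m' * (x : G) * m'⁻¹) * m⁻¹ = _
      group
    exact hmap (mem_map_of_mem _ hd.1)
  have hD1 : D ≠ ⊥ := by
    intro h
    refine hu₀c ?_
    have hmem : u₀ * (x : G) * u₀⁻¹ * (x : G)⁻¹ ∈ D := by
      refine mem_inf.2 ⟨mul_mem (show u₀ * (x : G) * u₀⁻¹ ∈ K from subset_closure ⟨u₀, hle hu₀, rfl⟩)
        (inv_mem (show (x : G) ∈ K from subset_closure ⟨1, one_mem M, by group⟩)), ?_⟩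
      rw [show u₀ * (x : G) * u₀⁻¹ * (x : G)⁻¹ = u₀ * ((x : G) * u₀⁻¹ * (x : G)⁻¹) by group]
      exact mul_mem hu₀ (‹N.Normal›.conj_mem _ (inv_mem hu₀) _)
    rw [h, mem_bot] at hmem
    exact mul_inv_eq_iff_eq_mul.1 (mul_inv_eq_one.1 hmem)
  -- an invariant subgroup of `W` is everything
  have hfull : ∀ V : Subgroup G, V ≤ W → V ≠ ⊥ → (∀ w ∈ V, (x : G) * w * (x : G)⁻¹ ∈ V) → V = W := by
    intro V hV hV1 hinv
    obtain ⟨i, hi3, hi⟩ := (Nat.dvd_prime_pow hpp).1 (hWc ▸ Subgroup.card_dvd_of_le hV)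
    rcases hcount p V i hpp hpN hinv hi (hV.trans hWN) with h | ⟨-, e, -⟩
    · exact absurd (le_bot_iff.1 (hWbot ▸ le_inf hV h)) hV1
    · exact Subgroup.eq_of_le_of_card_ge hV (by rw [hWc, hi, e])
  have hDeq : D = W := hfull D hDW hD1 (fun w hw => hDM _ x.2 w hw)
  -- `W` is normal in `G`
  haveI hSn : (S : Subgroup N).Normal := by
    refine ⟨fun s hs g => ?_⟩
    have h : (g : G) * (s : G) * (g : G)⁻¹ ∈ W := hDeq ▸ hDM g (hle g.2) _ (hDeq.symm ▸ mem_map_of_mem _ hs)
    obtain ⟨s', hs', e⟩ := h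
    rwa [← N.subtype_injective (show N.subtype s' = N.subtype (g * s * g⁻¹) from e)]
  haveI : W.Normal := exists_normal_of_unique N S hSn
  -- and commutative
  have hab : ∀ a ∈ W, ∀ b ∈ W, a * b = b * a := by
    set V := W ⊓ centralizer (W : Set G) with hV
    haveI : V.Normal := inferInstance
    have hV1 : V ≠ ⊥ := by
      intro h
      have hWp : IsPGroup p W := IsPGroup.of_card (n := 3) hWc
      haveI : Nontrivial W := Finite.one_lt_card_iff_nontrivial.1 (by
        rw [hWc]; exact Nat.one_lt_pow (by norm_num) hpp.one_lt)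
      haveI := hWp.center_nontrivial
      obtain ⟨z, hz⟩ := exists_ne (1 : center W)
      have hzV : ((z : W) : G) ∈ V := ⟨(z : W).2, mem_centralizer_iff.2 fun a ha =>
        congrArg Subtype.val (mem_center_iff.1 z.2 ⟨a, ha⟩)⟩
      rw [h, mem_bot] at hzV
      exact hz (Subtype.ext (Subtype.ext hzV))
    have hVW := hfull V inf_le_left hV1 (fun w hw => ‹V.Normal›.conj_mem w hw _)
    intro a ha b hb
    exact mem_centralizer_iff.1 ((hVW.symm ▸ hb : b ∈ V).2) a ha
  have hp0 : p ≠ 0 := hpp.ne_zero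
  refine false_of_abelian_normal W hab ?_ (hpG hp0)
  have := W.card_mul_index
  intro hdiv
  refine hp3 hp0 ?_
  rw [← this, hWc, Nat.mul_div_cancel_left _ (pow_pos hpp.pos 3)]
  exact Nat.mod_eq_zero_of_dvd hdiv

end Cyclic

section Small

variable {G : Type*} [Group G] [Finite G]

theorem three_of_sixty {T : Type*} [Group T] [Finite T] [IsSimpleGroup T] (h : Nat.card T = 60) :
    3 ∈ charDegrees T := by
  haveI : Fact (Nat.Prime 2) := ⟨Nat.prime_two⟩
  haveI := Fintype.ofFinite (GaloisField 2 2)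
  have hF : Fintype.card (GaloisField 2 2) = 4 := by
    rw [← Nat.card_eq_fintype_card, GaloisField.card 2 2 (by norm_num)]; norm_num
  obtain ⟨e⟩ := Cfsg.Agent.S0252.result hF
  obtain ⟨f⟩ := CfsgLib.Recog.Sixty.iso_alt_five h
  have := (CfsgLib.SL2Char.degrees_of_iso (F := GaloisField 2 2) (S := T) (by rw [hF]; decide)
    (by rw [hF]; decide) (Or.inl ⟨f.trans e.symm⟩)).1.2.2
  simpa [hF] using this

/-- Without elements of order `r` in the centralizer, the centralizer of the section is trivial. -/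
theorem centralizer_eq_bot {r : ℕ} (hr : r.Prime) {Q : Type*} [Group Q] [Finite Q] (T : Subgroup Q)
    [hTn : T.Normal] [IsSimpleGroup T] (hrT : r ∣ Nat.card T) (hnab : ¬ IsMulCommutative T)
    (hr2 : ¬ r * r ∣ Nat.card Q)
    (hmax : ∀ D : Subgroup Q, D.Normal → ¬ r ∣ Nat.card D → D = ⊥) :
    centralizer (T : Set Q) = ⊥ := by
  haveI : Fact r.Prime := ⟨hr⟩
  set C := centralizer (T : Set Q) with hC
  refine hmax C inferInstance fun hrC => ?_
  obtain ⟨z, hz⟩ := exists_prime_orderOf_dvd_card' (G := C) r hrC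
  obtain ⟨w, hw⟩ := exists_prime_orderOf_dvd_card' (G := T) r hrT
  obtain ⟨S, hS⟩ := CfsgLib.Perm.exists_mem_sylow_of_orderOf (p := r) (k := 1) (g := (z : Q))
    (by rw [orderOf_coe, hz, pow_one])
  obtain ⟨S', hS'⟩ := CfsgLib.Perm.exists_mem_sylow_of_orderOf (p := r) (k := 1) (g := (w : Q))
    (by rw [orderOf_coe, hw, pow_one])
  have hSc : ∀ S : Sylow r Q, Nat.card (S : Subgroup Q) = r := fun S => by
    obtain ⟨m, hm⟩ := hrT.trans T.card_subgroup_dvd_card
    rw [CfsgLib.Perm.sylow_card_eq S (k := 1) (m := m) (by rw [hm, pow_one])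
      (fun h => hr2 (hm ▸ Nat.mul_dvd_mul_left r h)), pow_one]
  have hw1 : (w : Q) ≠ 1 := fun e => by
    have : orderOf (w : Q) = 1 := by rw [e, orderOf_one]
    rw [orderOf_coe, hw] at this; exact hr.ne_one this
  have hS'T : (S' : Subgroup Q) ≤ T := by
    rw [← CfsgLib.Recog.LThreeThree5616.zpowers_eq_of_card (hSc S') hS' hw1, zpowers_le]; exact w.2
  obtain ⟨c, hc⟩ := MulAction.exists_smul_eq Q S' S
  rw [← hc, Sylow.coe_subgroup_smul, mem_smul_pointwise_iff_exists] at hS
  obtain ⟨v, hv, hvz⟩ := hS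
  have hzT : (z : Q) ∈ T := hvz ▸ hTn.conj_mem v (hS'T hv) c
  have hcen : center T = ⊥ := ((inferInstance : (center T).Normal).eq_bot_or_eq_top).resolve_right
    fun h => hnab ⟨⟨fun a b => (mem_center_iff.1 (h ▸ mem_top a : a ∈ center T) b).symm⟩⟩
  have hzc : (⟨(z : Q), hzT⟩ : T) ∈ center T := mem_center_iff.2 fun g =>
    Subtype.ext (mem_centralizer_iff.1 z.2 (g : Q) g.2)
  rw [hcen, mem_bot] at hzc
  have : orderOf (z : Q) = 1 := by rw [show (z : Q) = 1 from congrArg Subtype.val hzc, orderOf_one]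
  rw [orderOf_coe, hz] at this
  exact hr.ne_one this

/-- The order 360. -/
theorem false_360 (hn : Nat.card G = 360) (h6 : ∀ d ∈ charDegrees G, ¬ 6 ∣ d)
    (h10 : ∃ d ∈ charDegrees G, 10 ∣ d) (N : Subgroup G) [hNn : N.Normal] (T : Subgroup (G ⧸ N)) [T.Normal]
    [IsSimpleGroup T] (hT : Nat.card T = 60) (hC : centralizer (T : Set (G ⧸ N)) = ⊥) : False := by
  classical
  let β : Equiv.Perm (Fin 5) ≃* MulAut (alternatingGroup (Fin 5)) :=
    MulEquiv.ofBijective MulAut.conjNormal
      (CfsgLib.ClassSizes.AlternatingAut.conjNormal_bijective (by decide) (by decide))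
  obtain ⟨e⟩ := CfsgLib.Recog.Sixty.iso_alt_five hT
  let f : (G ⧸ N) →* Equiv.Perm (Fin 5) :=
    β.symm.toMonoidHom.comp ((MulAut.congr e).toMonoidHom.comp MulAut.conjNormal)
  have hf : Function.Injective f := by
    rw [← MonoidHom.ker_eq_bot_iff, eq_bot_iff, ← hC]
    intro q hq
    have h1 : MulAut.conjNormal (H := T) q = 1 := by
      have h : (MulAut.congr e) (MulAut.conjNormal (H := T) q) = 1 :=
        β.symm.injective (by rw [map_one]; exact hq)
      rw [← map_one (MulAut.congr e)] at h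
      exact (MulAut.congr e).injective h
    refine mem_centralizer_iff.2 fun t ht => ?_
    have h2 := congrArg (fun φ : MulAut T => ((φ ⟨t, ht⟩ : T) : G ⧸ N)) h1
    simp only [MulAut.conjNormal_apply, MulAut.one_apply] at h2
    exact (mul_inv_eq_iff_eq_mul.1 h2).symm
  have h120 : Nat.card (Equiv.Perm (Fin 5)) = 120 := by rw [Nat.card_perm, Nat.card_fin]; rfl
  have hQd : Nat.card (G ⧸ N) ∣ 120 := h120 ▸ Subgroup.card_dvd_of_injective f hf
  have hQ := Subgroup.card_eq_card_quotient_mul_card_subgroup N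
  rw [hn] at hQ
  have hTQ := T.card_subgroup_dvd_card
  rw [hT] at hTQ
  have hQv : Nat.card (G ⧸ N) = 60 ∨ Nat.card (G ⧸ N) = 120 := by
    obtain ⟨c, hc⟩ := hTQ
    have := Nat.le_of_dvd (by norm_num) hQd
    have := Nat.card_pos (α := G ⧸ N)
    omega
  rcases hQv with hQ60 | hQ120
  swap
  · have eQ := MulEquiv.ofBijective f ((Nat.bijective_iff_injective_and_card f).2 ⟨hf, by rw [hQ120, h120]⟩)
    obtain ⟨d, hd, hd6⟩ := six_perm_five
    exact h6 d (charDegrees_le_of_surjective (QuotientGroup.mk' N) (QuotientGroup.mk'_surjective N) d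
      ((charDegrees_congr eQ d).2 hd)) hd6
  have hN6 : Nat.card N = 6 := by rw [hQ60] at hQ; omega
  haveI : Fact (Nat.Prime 3) := ⟨Nat.prime_three⟩
  haveI : Fact (Nat.Prime 5) := ⟨by norm_num⟩
  obtain ⟨x, hx⟩ := exists_prime_orderOf_dvd_card' (G := G) 5 (by rw [hn]; norm_num)
  have hxp : IsPGroup 5 (zpowers x) := isPGroup_zpowers (k := 1) (by rw [hx]; rfl)
  set C := centralizer (N : Set G) with hCdef
  have hxC : x ∈ C := by
    have hm := card_inf_centralizer_modEq (p := 5) N (x := x) (fun w hw => hNn.conj_mem w hw x) hxp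
    have hd := Subgroup.card_dvd_of_le (inf_le_left : N ⊓ centralizer ({x} : Set G) ≤ N)
    rw [hN6] at hm hd
    obtain ⟨P⟩ := (inferInstance : Nonempty (Sylow 3 N))
    have hPc : Nat.card (P : Subgroup N) = 3 := by
      rw [CfsgLib.Perm.sylow_card_eq P (k := 1) (m := 2) (by rw [hN6]; norm_num) (by norm_num), pow_one]
    have hPn : (P : Subgroup N).Normal := Subgroup.normal_of_index_eq_two (by
      have := (P : Subgroup N).card_mul_index
      rw [hPc, hN6] at this; omega)
    haveI := exists_normal_of_unique N P hPn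
    set A := (P : Subgroup N).map N.subtype
    have hA : Nat.card A = 3 := by rw [card_map_of_injective N.subtype_injective, hPc]
    have hmA := card_inf_centralizer_modEq (p := 5) A (x := x)
      (fun w hw => (inferInstance : A.Normal).conj_mem w hw x) hxp
    have hdA := Subgroup.card_dvd_of_le (inf_le_left : A ⊓ centralizer ({x} : Set G) ≤ A)
    rw [hA] at hmA hdA
    have hA3 : Nat.card (A ⊓ centralizer ({x} : Set G) : Subgroup G) = 3 := by
      rcases (Nat.dvd_prime Nat.prime_three).1 hdA with e' | e'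
      · rw [e'] at hmA; exact absurd hmA (by decide)
      · exact e'
    have h3 := Subgroup.card_dvd_of_le
      (inf_le_inf_right (centralizer ({x} : Set G)) (map_subtype_le (P : Subgroup N)) :
        A ⊓ centralizer ({x} : Set G) ≤ N ⊓ centralizer ({x} : Set G))
    rw [hA3] at h3
    have key : ∀ c ∈ Nat.divisors 6, 3 ∣ c → 6 % 5 = c % 5 → c = 6 := by decide
    have h6' := key _ (Nat.mem_divisors.2 ⟨hd, by norm_num⟩) h3 hm
    refine mem_centralizer_iff.2 fun a ha => ?_
    exact mem_centralizer_singleton_iff.1 (inf_eq_left.1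
      (Subgroup.eq_of_le_of_card_ge inf_le_left (by rw [h6', hN6]) :
        N ⊓ centralizer ({x} : Set G) = N) ha)
  have hQeq : T = ⊤ := Subgroup.eq_top_of_card_eq _ (by rw [hT, hQ60])
  haveI : IsSimpleGroup (G ⧸ N) := by
    have : IsSimpleGroup (⊤ : Subgroup (G ⧸ N)) := hQeq ▸ inferInstance
    exact MulEquiv.isSimpleGroup (Subgroup.topEquiv).symm
  have hCtop : C.map (QuotientGroup.mk' N) = ⊤ := by
    haveI : (C.map (QuotientGroup.mk' N)).Normal :=
      (inferInstance : C.Normal).map _ (QuotientGroup.mk'_surjective N)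
    refine ((inferInstance : (C.map (QuotientGroup.mk' N)).Normal).eq_bot_or_eq_top).resolve_left fun h => ?_
    have hxN : x ∈ N := by
      have h1 : QuotientGroup.mk' N x ∈ C.map (QuotientGroup.mk' N) := mem_map_of_mem _ hxC
      rw [h, mem_bot] at h1
      exact (QuotientGroup.eq_one_iff x).1 h1
    have := Subgroup.orderOf_dvd_natCard N hxN
    rw [hx, hN6] at this
    norm_num at this
  have hgen : ∀ g : G, ∃ n ∈ N, ∃ c ∈ C, g = n * c := by
    intro g
    obtain ⟨c, hc, hce⟩ := (hCtop ▸ mem_top (QuotientGroup.mk' N g) :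
      QuotientGroup.mk' N g ∈ C.map (QuotientGroup.mk' N))
    refine ⟨g * c⁻¹, ?_, c, hc, (inv_mul_cancel_right g c).symm⟩
    rw [← QuotientGroup.eq_one_iff, QuotientGroup.mk_mul, QuotientGroup.mk_inv]
    exact mul_inv_eq_one.2 hce.symm
  by_cases hab : ∀ a ∈ N, ∀ b ∈ N, a * b = b * a
  · -- `N` is central
    have hZ : N ≤ center G := by
      intro a ha
      rw [mem_center_iff]
      intro g
      obtain ⟨u, hu, c, hc, rfl⟩ := hgen g
      have h1 := mem_centralizer_iff.1 hc a ha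
      rw [mul_assoc, ← h1, ← mul_assoc, hab u hu a ha, mul_assoc]
    obtain ⟨d, ⟨χ, rfl⟩, hd10⟩ := h10
    have h := sq_charDegree_mul_card_le χ N hZ
    rw [hN6, hn] at h
    have hpos := charDegree_pos χ
    have h10' := Nat.le_of_dvd hpos hd10
    nlinarith
  push Not at hab
  obtain ⟨u, hu, v, hv, huv⟩ := hab
  have hCN : C ⊓ N = ⊥ := by
    by_contra hne
    obtain ⟨z, hz, hz1⟩ := (Subgroup.ne_bot_iff_exists_ne_one.1 hne).elim fun z hz =>
      (⟨(z : G), z.2, fun e => hz (Subtype.ext e)⟩ : ∃ z : G, z ∈ C ⊓ N ∧ z ≠ 1)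
    -- a non-trivial centre forces commutativity
    set Z := (C ⊓ N).subgroupOf N with hZdef
    have hZle : Z ≤ center N := fun a ha => mem_center_iff.2 fun b =>
      Subtype.ext (mem_centralizer_iff.1 (mem_subgroupOf.1 ha).1 (b : G) b.2)
    haveI : Z.Normal := ⟨fun a ha b => by
      rw [mem_center_iff.1 (hZle ha) b, mul_inv_cancel_right]; exact ha⟩
    have hZc : 1 < Nat.card Z := (Subgroup.one_lt_card_iff_ne_bot Z).2 fun e => hz1 (by
      have h1 : (⟨z, hz.2⟩ : N) ∈ Z := mem_subgroupOf.2 hz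
      rw [e, mem_bot] at h1
      exact congrArg Subtype.val h1)
    have hZq := Subgroup.card_eq_card_quotient_mul_card_subgroup Z
    rw [hN6] at hZq
    haveI : IsCyclic (N ⧸ Z) := by
      have hd : Nat.card Z ∣ 6 := ⟨_, by rw [hZq, mul_comm]⟩
      have key : ∀ c ∈ Nat.divisors 6, 1 < c → c = 2 ∨ c = 3 ∨ c = 6 := by decide
      rcases key _ (Nat.mem_divisors.2 ⟨hd, by norm_num⟩) hZc with e' | e' | e' <;> rw [e'] at hZq
      · exact isCyclic_of_prime_card (p := 3) (by omega)
      · exact @isCyclic_of_prime_card _ _ 2 ⟨Nat.prime_two⟩ (by omega)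
      · haveI : Subsingleton (N ⧸ Z) := (Nat.card_eq_one_iff_unique.1 (by omega)).1
        exact isCyclic_of_subsingleton
    exact huv (congrArg Subtype.val (commutative_of_cyclic_center_quotient (QuotientGroup.mk' Z)
      (by rw [QuotientGroup.ker_mk']; exact hZle) (⟨u, hu⟩ : N) ⟨v, hv⟩))
  have hinj : Function.Injective ((QuotientGroup.mk' N).comp C.subtype) := by
    rw [← MonoidHom.ker_eq_bot_iff, eq_bot_iff]
    intro c hc
    have h1 : (c : G) ∈ C ⊓ N := ⟨c.2, (QuotientGroup.eq_one_iff (c : G)).1 hc⟩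
    rw [hCN, mem_bot] at h1
    exact mem_bot.2 (Subtype.ext h1)
  have eC : C ≃* G ⧸ N := MulEquiv.ofBijective _ ⟨hinj, fun q => by
    obtain ⟨c, hc, e'⟩ := (hCtop ▸ mem_top q : q ∈ C.map (QuotientGroup.mk' N))
    exact ⟨⟨c, hc⟩, e'⟩⟩
  have := Fintype.ofFinite G
  have := Fintype.ofFinite C
  have := Fintype.ofFinite (IrrCharacter G)
  obtain ⟨θ, hθ⟩ := (charDegrees_congr eC 3).2 (three_of_sixty hQ60)
  obtain ⟨m, hm⟩ := IsChar.exists_sum (isCharacter_indFun C (IsIrr.isCharacter θ.2))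
  set a := ⁅u, v⁆ with ha
  have haN : a ∈ N := mul_mem (mul_mem (mul_mem hu hv) (inv_mem hu)) (inv_mem hv)
  have ha1 : a ≠ 1 := fun e => huv (commutatorElement_eq_one_iff_mul_comm.1 e)
  have haC : a ∉ C := fun h => ha1 (by
    have h1 : a ∈ C ⊓ N := ⟨h, haN⟩
    rwa [hCN, mem_bot] at h1)
  have hconst : ∀ χ : IrrCharacter G, m χ ≠ 0 → (χ : G → ℂ) a = (χ : G → ℂ) 1 := by
    intro χ hχ
    have hne : classInner (fun c : C => (χ : G → ℂ) c) (θ : C → ℂ) ≠ 0 := by
      have h1 := frobenius_reciprocity C (θ : C → ℂ) (IsIrr.isClassFunction χ.2)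
      rw [hm, classInner_sum_irr] at h1
      intro h0
      rw [← classInner_conj_symm, h0, map_zero] at h1
      exact hχ (Nat.cast_eq_zero.1 h1)
    obtain ⟨h3, hidx⟩ := Cfsg.Agent.S0887.result C χ χ.2 θ θ.2 hne _ _
      (cast_irrDegree χ).symm (cast_irrDegree θ).symm
    rw [hθ] at h3
    have hodd : ¬ 2 ∣ charDegree (χ : G → ℂ) := fun h =>
      h6 _ ⟨χ, rfl⟩ ((show Nat.Coprime 2 3 by norm_num).mul_dvd_of_dvd_of_dvd h h3)
    -- all constituents on `N` are linear
    have := Fintype.ofFinite N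
    have := Fintype.ofFinite (IrrCharacter N)
    obtain ⟨k, hk⟩ := IsChar.exists_sum (χ := fun n : N => (χ : G → ℂ) n)
      (IsChar.restrict N (IsIrr.isCharacter χ.2))
    have hlin : ∀ ψ : IrrCharacter N, k ψ ≠ 0 → (ψ : N → ℂ) ⟨a, haN⟩ = (ψ : N → ℂ) 1 := by
      intro ψ hψ
      have hd := (Cfsg.Agent.S0887.result N χ χ.2 ψ ψ.2 (by
        rw [hk, classInner_sum_irr]; exact Nat.cast_ne_zero.2 hψ) _ _
        (cast_irrDegree χ).symm (cast_irrDegree ψ).symm).1
      have hle := sq_charDegree_le ψ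
      rw [hN6] at hle
      have h1 : charDegree (ψ : N → ℂ) = 1 := by
        have hp := charDegree_pos ψ
        have : charDegree (ψ : N → ℂ) ≤ 2 := by nlinarith
        rcases (show charDegree (ψ : N → ℂ) = 1 ∨ charDegree (ψ : N → ℂ) = 2 by omega) with e' | e'
        · exact e'
        · exact absurd (e' ▸ hd) hodd
      obtain ⟨φ, hφ⟩ := exists_hom_of_degree_one ψ h1
      have hval : (ψ : N → ℂ) ⟨a, haN⟩ = (φ ⁅(⟨u, hu⟩ : N), ⟨v, hv⟩⁆ : ℂ) := congrFun hφ _
      rw [hval, map_commutatorElement, commutatorElement_eq_one_iff_mul_comm.2 (mul_comm _ _),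
        congrFun hφ 1, map_one]
    have e1 := congrFun hk ⟨a, haN⟩
    have e2 := congrFun hk 1
    simp only [Finset.sum_apply, Pi.smul_apply, smul_eq_mul] at e1 e2
    rw [show (χ : G → ℂ) a = _ from e1, show (χ : G → ℂ) 1 = _ from e2]
    refine Finset.sum_congr rfl fun ψ _ => ?_
    by_cases hψ : k ψ = 0
    · simp [hψ]
    · rw [hlin ψ hψ]
  have hz : indFun C (θ : C → ℂ) a = indFun C (θ : C → ℂ) 1 := by
    rw [hm]
    simp only [Finset.sum_apply, Pi.smul_apply, smul_eq_mul]
    refine Finset.sum_congr rfl fun χ _ => ?_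
    by_cases hχ : m χ = 0
    · simp [hχ]
    · rw [hconst χ hχ]
  rw [CfsgLib.Clifford.indFun_eq_zero_off_normal inferInstance _ haC, indFun_apply_one] at hz
  exact mul_ne_zero (Nat.cast_ne_zero.2 C.index_ne_zero_of_finite) (IsIrr.apply_one_ne_zero θ.2) hz.symm

/-- The order 2520. -/
theorem false_2520 (hn : Nat.card G = 2520) (h5 : 5 ∈ degreePrimes G)
    (h6 : ∃ d ∈ charDegrees G, 6 ∣ d) (N : Subgroup G) [hNn : N.Normal] (T : Subgroup (G ⧸ N))
    [hTn : T.Normal] [IsSimpleGroup T] (hT : Nat.card T = 168 ∨ Nat.card T = 504)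
    (hC : centralizer (T : Set (G ⧸ N)) = ⊥) : False := by
  classical
  haveI : Fact (Nat.Prime 5) := ⟨by norm_num⟩
  haveI : Fact (Nat.Prime 7) := ⟨by norm_num⟩
  have hQ := Subgroup.card_eq_card_quotient_mul_card_subgroup N
  rw [hn] at hQ
  obtain ⟨c, hc⟩ := T.card_subgroup_dvd_card
  have hN15 : Nat.card N ∣ 15 := by
    rcases hT with e | e <;> rw [e] at hc <;> rw [hc] at hQ
    · exact ⟨c, by linarith⟩
    · exact (Dvd.intro c (by linarith : Nat.card N * c = 5)).trans (by norm_num)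
  have hN5 : ¬ 5 ∣ Nat.card N := by
    intro hd
    obtain ⟨P⟩ := (inferInstance : Nonempty (Sylow 5 N))
    obtain ⟨m, hm⟩ := hd
    have hm3 : m ∣ 3 := by
      rw [hm] at hN15; exact (Nat.mul_dvd_mul_iff_left (by norm_num : 0 < 5)).1 hN15
    have hPc : Nat.card (P : Subgroup N) = 5 := by
      rw [CfsgLib.Perm.sylow_card_eq P (k := 1) (m := m) (by rw [hm, pow_one])
        (fun h => absurd (h.trans hm3) (by norm_num)), pow_one]
    have hidx : (P : Subgroup N).index ∣ 3 := by
      have := (P : Subgroup N).card_mul_index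
      rw [hPc, hm] at this
      rw [Nat.eq_of_mul_eq_mul_left (by norm_num) this]; exact hm3
    have h1 := card_sylow_modEq_one 5 N
    have h2 := (Sylow.card_dvd_index P).trans hidx
    have key : ∀ s ∈ Nat.divisors 3, s % 5 = 1 % 5 → s = 1 := by decide
    have h3 := key _ (Nat.mem_divisors.2 ⟨h2, by norm_num⟩) h1
    haveI : Subsingleton (Sylow 5 N) := (Nat.card_eq_one_iff_unique.1 h3).1
    haveI := exists_normal_of_unique N P (Sylow.normal_of_subsingleton P)
    set A := (P : Subgroup N).map N.subtype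
    have hA : Nat.card A = 5 := by rw [card_map_of_injective N.subtype_injective, hPc]
    haveI : IsCyclic A := isCyclic_of_prime_card hA
    refine false_of_abelian_normal A (fun a ha b hb =>
      congrArg Subtype.val (IsMulCommutative.is_comm.comm (⟨a, ha⟩ : A) ⟨b, hb⟩)) ?_ h5
    have := A.card_mul_index
    rw [hA, hn] at this
    omega
  have h5Q : 5 ∣ Nat.card (G ⧸ N) := by
    rcases (Nat.Prime.dvd_mul (by norm_num : Nat.Prime 5)).1 (hQ ▸ (by norm_num : 5 ∣ 2520)) with h | h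
    · exact h
    · exact absurd h hN5
  rcases hT with hT | hT
  · -- an element of order five centralizes `T`
    obtain ⟨y, hy⟩ := exists_prime_orderOf_dvd_card' (G := G ⧸ N) 5 h5Q
    have hyp : IsPGroup 5 (zpowers y) := isPGroup_zpowers (k := 1) (by rw [hy]; rfl)
    have hnab : ¬ IsMulCommutative T := CfsgLib.Perm.not_comm_of_not_prime (by rw [hT]; norm_num)
    have h8 : Nat.card (Sylow 7 T) = 8 := by
      obtain ⟨P⟩ := (inferInstance : Nonempty (Sylow 7 T))
      have hPc : Nat.card (P : Subgroup T) = 7 := by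
        rw [CfsgLib.Perm.sylow_card_eq P (k := 1) (m := 24) (by rw [hT]; norm_num) (by norm_num), pow_one]
      have hidx : (P : Subgroup T).index = 24 := by
        have := (P : Subgroup T).card_mul_index
        rw [hPc, hT] at this; omega
      have h1 := card_sylow_modEq_one 7 T
      have h2 := hidx ▸ Sylow.card_dvd_index P
      have key : ∀ s ∈ Nat.divisors 24, s % 7 = 1 % 7 → s = 1 ∨ s = 8 := by decide
      refine (key _ (Nat.mem_divisors.2 ⟨h2, by norm_num⟩) h1).resolve_left fun e => ?_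
      haveI : Subsingleton (Sylow 7 T) := (Nat.card_eq_one_iff_unique.1 e).1
      rcases (Sylow.normal_of_subsingleton P).eq_bot_or_eq_top with h | h
      · rw [h, Subgroup.card_bot] at hPc; norm_num at hPc
      · rw [h, Subgroup.card_top, hT] at hPc; norm_num at hPc
    let φ : zpowers y →* MulAut T := MulAut.conjNormal.comp (zpowers y).subtype
    letI : MulDistribMulAction (zpowers y) T := MulDistribMulAction.compHom T φ
    have hfix := hyp.card_modEq_card_fixedPoints (Sylow 7 T)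
    rw [h8] at hfix
    have h2 : 1 < Nat.card (MulAction.fixedPoints (zpowers y) (Sylow 7 T)) := by
      by_contra hlt
      push Not at hlt
      have key : ∀ s : ℕ, s ≤ 1 → 8 % 5 ≠ s % 5 := by decide
      exact key _ hlt hfix
    haveI := Finite.one_lt_card_iff_nontrivial.1 h2
    obtain ⟨P, P', hne⟩ := exists_pair_ne (MulAction.fixedPoints (zpowers y) (Sylow 7 T))
    set Cy := (centralizer ({y} : Set (G ⧸ N))).subgroupOf T with hCy
    have hle : ∀ P : MulAction.fixedPoints (zpowers y) (Sylow 7 T), ((P : Sylow 7 T) : Subgroup T) ≤ Cy := by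
      intro P w hw
      have hP' := P.2 ⟨y, mem_zpowers y⟩
      set W := ((P : Sylow 7 T) : Subgroup T).map T.subtype with hW
      have hWc : Nat.card W = 7 := by
        rw [hW, card_map_of_injective T.subtype_injective,
          CfsgLib.Perm.sylow_card_eq (P : Sylow 7 T) (k := 1) (m := 24) (by rw [hT]; norm_num) (by norm_num),
          pow_one]
      have hinv : ∀ z ∈ W, y * z * y⁻¹ ∈ W := by
        rintro _ ⟨z, hz, rfl⟩
        refine ⟨(⟨y, mem_zpowers y⟩ : zpowers y) • z, ?_, rfl⟩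
        have hmem := Subgroup.smul_mem_pointwise_smul z (⟨y, mem_zpowers y⟩ : zpowers y)
          ((P : Sylow 7 T) : Subgroup T) hz
        have hP'' : (⟨y, mem_zpowers y⟩ : zpowers y) • ((P : Sylow 7 T) : Subgroup T) = (P : Sylow 7 T) :=
          congrArg (fun S : Sylow 7 T => (S : Subgroup T)) hP'
        exact hP'' ▸ hmem
      have hm := card_inf_centralizer_modEq (p := 5) W hinv hyp
      have hd := Subgroup.card_dvd_of_le (inf_le_left : W ⊓ centralizer ({y} : Set (G ⧸ N)) ≤ W)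
      rw [hWc] at hm hd
      rcases (Nat.dvd_prime (by norm_num : Nat.Prime 7)).1 hd with e | e
      · rw [e] at hm; exact absurd hm (by decide)
      · rw [hCy, mem_subgroupOf]
        exact inf_eq_left.1 (Subgroup.eq_of_le_of_card_ge inf_le_left (by rw [e, hWc]) :
          W ⊓ centralizer ({y} : Set (G ⧸ N)) = W) (mem_map_of_mem _ hw)
    have htop : Cy = ⊤ := by
      by_contra hne'
      have hi := CfsgLib.Perm.two_mul_card_dvd_factorial_index hnab Cy hne'
      have hPC : ((P : Sylow 7 T).subtype (hle P)) ≠ ((P' : Sylow 7 T).subtype (hle P')) := fun e =>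
        hne (Subtype.ext (Sylow.subtype_injective e))
      have hgt : 1 < Nat.card (Sylow 7 Cy) := Finite.one_lt_card_iff_nontrivial.2 ⟨⟨_, _, hPC⟩⟩
      have h1 := card_sylow_modEq_one 7 Cy
      have h2 := (Sylow.card_dvd_index ((P : Sylow 7 T).subtype (hle P))).trans (index_dvd_card _)
      have h7 : 7 ∣ Nat.card Cy := by
        refine dvd_trans ?_ (Subgroup.card_dvd_of_le (hle P))
        rw [CfsgLib.Perm.sylow_card_eq (P : Sylow 7 T) (k := 1) (m := 24) (by rw [hT]; norm_num) (by norm_num)]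
        norm_num
      have hs : 8 ≤ Nat.card (Sylow 7 Cy) := by
        by_contra hlt
        push Not at hlt
        have h1' : Nat.card (Sylow 7 Cy) % 7 = 1 := h1
        omega
      have hcop : Nat.Coprime 7 (Nat.card (Sylow 7 Cy)) := by
        refine (Nat.Prime.coprime_iff_not_dvd (by norm_num)).2 fun hd7 => ?_
        have h1' : Nat.card (Sylow 7 Cy) % 7 = 1 := h1
        omega
      have h56 : 56 ≤ Nat.card Cy := by
        have := Nat.le_of_dvd Nat.card_pos (hcop.mul_dvd_of_dvd_of_dvd h7 h2)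
        omega
      have hmul := Cy.card_mul_index
      rw [hT] at hmul hi
      have : Cy.index ≤ 3 := by nlinarith
      have h3 : Cy.index.factorial ≤ 6 := (Nat.factorial_le this).trans (by decide)
      have := Nat.le_of_dvd (Nat.factorial_pos _) hi
      omega
    have hyC : y ∈ centralizer (T : Set (G ⧸ N)) := mem_centralizer_iff.2 fun t ht =>
      mem_centralizer_singleton_iff.1 (mem_subgroupOf.1 (htop ▸ mem_top (⟨t, ht⟩ : T)))
    rw [hC, mem_bot] at hyC
    rw [hyC, orderOf_one] at hy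
    norm_num at hy
  · rw [hT] at hc
    rw [hc] at hQ
    have hNc : Nat.card N * c = 5 := by linarith
    have hN1 : Nat.card N = 1 := by
      rcases (Nat.dvd_prime (by norm_num : Nat.Prime 5)).1 (Dvd.intro c hNc) with e | e
      · exact e
      · exact absurd (e ▸ dvd_rfl) hN5
    have hNbot : N = ⊥ := Subgroup.card_eq_one.1 hN1
    have eQ : G ⧸ N ≃* G := (QuotientGroup.quotientMulEquivOfEq hNbot).trans QuotientGroup.quotientBot
    obtain ⟨d, hd, hd6⟩ := h6
    obtain ⟨ψ, rfl⟩ := (charDegrees_congr eQ d).2 hd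
    obtain ⟨θ, hθd, hθe⟩ := exists_constituent T ψ
    have hidx : T.index = 5 := by
      have h := T.card_mul_index
      rw [hT, hc] at h
      rw [hN1, one_mul] at hNc
      omega
    rw [hidx] at hθe
    obtain ⟨-, hall⟩ := psl_degrees (S := T) (q := 8) (by rw [hT]; decide)
    have hθ := hall _ ⟨θ, rfl⟩
    obtain ⟨j, hj⟩ := hθd
    rw [hj, Nat.mul_div_cancel_left _ (charDegree_pos θ)] at hθe
    have hj5 : Nat.Coprime 6 j := Nat.Coprime.coprime_dvd_right hθe (by norm_num)
    rw [hj] at hd6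
    have h6θ := hj5.dvd_of_dvd_mul_right hd6
    rcases hθ with e | e | e
    · rw [e] at h6θ; norm_num at h6θ
    · have := h6θ.trans e; norm_num at this
    · have := h6θ.trans e; norm_num at this

end Small

end CfsgLib.CharDegree.SmallSimple
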