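import Cfsg.Prelude.Def_DegreeGraph
import Cfsg.Agent.Lib.CharDegree.Basic
import Cfsg.Agent.Lib.CharDegree.Restriction
import Cfsg.Agent.Lib.Char.Perm
import Cfsg.Agent.Lib.Char.Burnside
import Cfsg.Agent.Lib.Blocks.Covering
import Cfsg.Agent.Lib.Known.SL2Char.PSLDegrees
import Cfsg.Agent.Lib.Perm.FewSylowTable
import Cfsg.Agent.Lib.Perm.SimpleCount
import Cfsg.Agent.Lib.Perm.CharAverage
import Cfsg.Agent.Lib.Recog.LThreeThree5616.Main
import Cfsg.Agent.S0494
import Cfsg.Agent.S0495
import Cfsg.Agent.S0497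
import Cfsg.Agent.S0498
import Cfsg.Agent.S0254
import Cfsg.Agent.S0981
import Cfsg.Agent.S0984
import Cfsg.Agent.S1011
import Cfsg.Agent.S1020
import Cfsg.Agent.S1021
import Cfsg.Agent.S0887
import Mathlib.GroupTheory.Perm.Centralizer
import Mathlib.GroupTheory.SpecificGroups.Alternating.Centralizer
import Mathlib.GroupTheory.GroupAction.SubMulAction.Combination
import Mathlib.FieldTheory.Finite.GaloisField

/-!
# Degree facts for the simple groups of order below 6000
-/

set_option autoImplicit false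

namespace CfsgLib.CharDegree.SmallSimple

open Cfsg CfsgLib.Char CfsgLib.CharDegree

section General

variable {G H : Type*} [Group G] [Group H]

theorem charDegrees_le_of_surjective (f : G →* H) (hf : Function.Surjective f) :
    ∀ d ∈ charDegrees H, d ∈ charDegrees G := by
  rintro _ ⟨χ, rfl⟩
  refine ⟨⟨_, IsIrr.comp_surjective f hf χ.2⟩, ?_⟩
  simp [charDegree]

theorem charDegrees_congr (e : G ≃* H) (d : ℕ) : d ∈ charDegrees G ↔ d ∈ charDegrees H :=
  ⟨fun h => charDegrees_le_of_surjective e.symm.toMonoidHom e.symm.surjective d h,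
    fun h => charDegrees_le_of_surjective e.toMonoidHom e.surjective d h⟩

/-- An irreducible degree of a normal subgroup of a quotient divides a degree of the group. -/
theorem exists_dvd_of_section [Finite G] (N : Subgroup G) [N.Normal] (T : Subgroup (G ⧸ N)) [T.Normal]
    {a : ℕ} (ha : a ∈ charDegrees T) : ∃ d ∈ charDegrees G, a ∣ d := by
  classical
  have := Fintype.ofFinite G
  have := Fintype.ofFinite (G ⧸ N)
  have := Fintype.ofFinite T
  obtain ⟨θ, rfl⟩ := ha
  obtain ⟨ψ, hψ⟩ := CfsgLib.Blocks.exists_irr_over T θ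
  refine ⟨_, ⟨infl N ψ, rfl⟩, ?_⟩
  rw [charDegree_infl]
  exact (Cfsg.Agent.S0887.result T ψ ψ.2 θ θ.2 hψ _ _
      (cast_irrDegree ψ).symm (cast_irrDegree θ).symm).1

/-- The degree over a normal subgroup. -/
theorem exists_constituent [Finite G] (N : Subgroup G) [N.Normal] (χ : IrrCharacter G) :
    ∃ θ : IrrCharacter N, charDegree (θ : N → ℂ) ∣ charDegree (χ : G → ℂ) ∧
      charDegree (χ : G → ℂ) / charDegree (θ : N → ℂ) ∣ N.index := by
  classical
  have := Fintype.ofFinite G
  have := Fintype.ofFinite N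
  have := Fintype.ofFinite (IrrCharacter N)
  obtain ⟨m, hm⟩ := IsChar.exists_sum (χ := fun n : N => (χ : G → ℂ) n)
    (IsChar.restrict N (IsIrr.isCharacter χ.2))
  obtain ⟨θ, hθ⟩ : ∃ θ, m θ ≠ 0 := by
    by_contra h
    push Not at h
    refine IsIrr.apply_one_ne_zero χ.2 ?_
    simpa [h] using congrFun hm 1
  refine ⟨θ, Cfsg.Agent.S0887.result N χ χ.2 θ θ.2 ?_ _ _
    (cast_irrDegree χ).symm (cast_irrDegree θ).symm⟩
  rw [hm, classInner_sum_irr]
  exact Nat.cast_ne_zero.2 hθ

/-- An abelian normal subgroup of order divisible by a prime which divides the group order once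
excludes it from the degree primes. -/
theorem false_of_abelian_normal [Finite G] {p : ℕ} (A : Subgroup G) [A.Normal]
    (hab : ∀ a ∈ A, ∀ b ∈ A, a * b = b * a) (hd : ¬ p ∣ A.index) (hp : p ∈ degreePrimes G) : False := by
  obtain ⟨-, d, ⟨χ, rfl⟩, hpd⟩ := hp
  obtain ⟨n, ρ, hρ, -, hn⟩ := exists_rep χ
  have h := CfsgLib.Clifford.finrank_dvd_index n ρ A hab
  rw [Module.finrank_fin_fun] at h
  exact hd (hpd.trans (hn ▸ h))

end General

/-- The symmetric group on five points has a degree divisible by six. -/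
theorem six_perm_five : ∃ d ∈ charDegrees (Equiv.Perm (Fin 5)), 6 ∣ d := by
  haveI : Fact (Nat.Prime 5) := ⟨by norm_num⟩
  set G := Equiv.Perm (Fin 5) with hG
  set c : G := finRotate 5 with hc
  have hc5 : orderOf c = 5 := orderOf_eq_prime (by decide +kernel) (by decide +kernel)
  have hconj : ∀ k, 0 < k → k < 5 → IsConj c (c ^ k) := by
    intro k h1 h2
    rw [Equiv.Perm.isConj_iff_cycleType_eq]
    interval_cases k <;> decide +kernel
  have hcent : Nat.card (Subgroup.centralizer ({c} : Set G)) = 5 := by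
    rw [Equiv.Perm.nat_card_centralizer]; decide +kernel
  have key : ∀ e ∈ List.range 11, 120 % e = 0 → e ≠ 1 → e % 6 ≠ 0 →
      e = 2 ∨ e = 3 ∨ e = 8 ∨ e = 4 ∨ e = 5 ∨ e = 10 := by decide +kernel
  classical
  by_contra hno
  push Not at hno
  have := Fintype.ofFinite (IrrCharacter G)
  have hcard : Nat.card G = 120 := by rw [hG, Nat.card_perm, Nat.card_fin]; rfl
  let d : IrrCharacter G → ℕ := fun χ => charDegree (χ : G → ℂ)
  -- the value at a five cycle
  have hval : ∀ χ : IrrCharacter G, ∃ a : ℤ, (χ : G → ℂ) c = a ∧ (5 : ℤ) ∣ (d χ : ℤ) + 4 * a := by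
    intro χ
    haveI := Fintype.ofFinite (Subgroup.zpowers c)
    obtain ⟨m, hm⟩ := CfsgLib.Perm.CharAverage.exists_sum_eq (Subgroup.zpowers c) (IsIrr.isCharacter χ.2)
    have hsum : ∑ x : Subgroup.zpowers c, (χ : G → ℂ) x = ∑ i : Fin 5, (χ : G → ℂ) (c ^ (i : ℕ)) := by
      rw [← Equiv.sum_comp ((finCongr hc5.symm).trans (finEquivZPowers (isOfFinOrder_of_finite c)))]
      rfl
    rw [hsum, Nat.card_zpowers, hc5, Fin.sum_univ_five] at hm
    have hcl : ∀ k, 0 < k → k < 5 → (χ : G → ℂ) (c ^ k) = (χ : G → ℂ) c := fun k h1 h2 => by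
      obtain ⟨g, hg⟩ := isConj_iff.1 (hconj k h1 h2)
      rw [← hg, IsIrr.isClassFunction χ.2]
    simp only [Fin.val_zero, Fin.val_one, Fin.val_two, pow_zero,
      show ((3 : Fin 5) : ℕ) = 3 from rfl, show ((4 : Fin 5) : ℕ) = 4 from rfl] at hm
    rw [hcl 1 (by norm_num) (by norm_num), hcl 2 (by norm_num) (by norm_num),
      hcl 3 (by norm_num) (by norm_num), hcl 4 (by norm_num) (by norm_num),
      ← cast_irrDegree χ] at hm
    push_cast at hm
    set z : ℤ := 5 * (m : ℤ) - d χ
    have hz : 4 * (χ : G → ℂ) c = (z : ℂ) := by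
      show 4 * (χ : G → ℂ) c = ((5 * (m : ℤ) - d χ : ℤ) : ℂ)
      push_cast
      linear_combination hm
    obtain ⟨k, ρ, -, hρ⟩ := χ.2
    have hint : IsIntegral ℤ ((χ : G → ℂ) c) := by
      rw [← hρ]; exact isIntegral_character ρ c
    have hzint : 4 ∣ z.natAbs := by
      obtain ⟨N, hN⟩ : ∃ N : ℕ, z.natAbs = N := ⟨_, rfl⟩
      rw [hN]
      refine CfsgLib.CharIntegral.dvd_of_isIntegral_div (by norm_num) ?_
      rcases Int.natAbs_eq z with e | e <;> rw [hN] at e <;> rw [e] at hz
      · have : ((N : ℕ) : ℂ) / ((4 : ℕ) : ℂ) = (χ : G → ℂ) c := by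
          push_cast at hz ⊢; linear_combination (-1/4 : ℂ) * hz
        rw [this]; exact hint
      · have : ((N : ℕ) : ℂ) / ((4 : ℕ) : ℂ) = -(χ : G → ℂ) c := by
          push_cast at hz ⊢; linear_combination (1/4 : ℂ) * hz
        rw [this]; exact hint.neg
    obtain ⟨a, ha⟩ := Int.ofNat_dvd_left.2 hzint
    refine ⟨a, ?_, ⟨m, ?_⟩⟩
    · rw [ha] at hz; push_cast at hz; linear_combination hz / 4
    · show (d χ : ℤ) + 4 * a = 5 * (m : ℤ)
      have : (4 : ℤ) * a = 5 * (m : ℤ) - d χ := by rw [← Nat.cast_ofNat (R := ℤ) (n := 4), ← ha]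
      omega
  choose a ha hdvd using hval
  have hcol : ∑ χ, a χ ^ 2 = 5 := by
    have h := column_orthogonality c c
    rw [if_pos (IsConj.refl c), hcent] at h
    have h' : ((∑ χ, a χ ^ 2 : ℤ) : ℂ) = ((5 : ℤ) : ℂ) := by
      push_cast
      refine Eq.trans ?_ h
      exact Finset.sum_congr rfl fun χ _ => by rw [ha, map_intCast, pow_two]
    exact_mod_cast h'
  have hlin : (Finset.univ.filter fun χ => d χ = 1).card = 2 := by
    rw [← Fintype.card_subtype, ← Nat.card_eq_fintype_card, card_linear,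
      alternatingGroup.commutator_perm_eq (by simp)]
    exact alternatingGroup.index_eq_two
  have hsq : ∑ χ, d χ ^ 2 = 120 := by
    rw [← Nat.cast_inj (R := ℂ), ← hcard, ← sum_sq_degree, Nat.cast_sum]
    exact Finset.sum_congr rfl fun χ _ => by simp only [d]; rw [Nat.cast_pow, cast_irrDegree]
  have hle10 : ∀ χ, d χ ≤ 10 := fun χ => by
    have h2 := Finset.single_le_sum (f := fun ψ : IrrCharacter G => d ψ ^ 2)
      (fun _ _ => Nat.zero_le _) (Finset.mem_univ χ)
    rw [hsq] at h2
    by_contra hlt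
    have : 11 ^ 2 ≤ d χ ^ 2 := Nat.pow_le_pow_left (by omega) 2
    omega
  have hone : ∀ χ, d χ = 1 → a χ ≠ 0 := fun χ h h0 => by
    have := hdvd χ; rw [h, h0] at this; norm_num at this
  set L := Finset.univ.filter fun χ => d χ = 1 with hL
  set R := Finset.univ.filter fun χ => ¬ d χ = 1 with hR
  have hL2 : 2 ≤ ∑ χ ∈ L, a χ ^ 2 := by
    have : ∑ χ ∈ L, (1 : ℤ) ≤ ∑ χ ∈ L, a χ ^ 2 := Finset.sum_le_sum fun χ hχ => by
      have := hone χ (Finset.mem_filter.1 hχ).2
      have : 0 < a χ ^ 2 := by positivity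
      omega
    rw [Finset.sum_const, hlin, nsmul_one] at this
    exact_mod_cast this
  have hR3 : ∑ χ ∈ R, a χ ^ 2 ≤ 3 := by
    have h := Finset.sum_filter_add_sum_filter_not Finset.univ (fun χ => d χ = 1) (fun χ => a χ ^ 2)
    rw [hcol, ← hL, ← hR] at h
    linarith
  have hcl : ∀ χ ∈ R, (d χ = 4 ∧ a χ ^ 2 = 1) ∨ (5 ∣ d χ ∧ a χ ^ 2 = 0) := by
    intro χ hχ
    have h1 : a χ ^ 2 ≤ 3 :=
      (Finset.single_le_sum (f := fun ψ => a ψ ^ 2) (fun _ _ => sq_nonneg _) hχ).trans hR3
    have hb : -1 ≤ a χ ∧ a χ ≤ 1 := by constructor <;> nlinarith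
    have hmem : d χ ∈ charDegrees G := ⟨χ, rfl⟩
    have hdd : 120 % d χ = 0 := Nat.mod_eq_zero_of_dvd (hcard ▸ charDegree_dvd_card χ)
    have h5 := hdvd χ
    have ha3 : a χ = -1 ∨ a χ = 0 ∨ a χ = 1 := by omega
    rcases key _ (List.mem_range.2 (Nat.lt_succ_of_le (hle10 χ))) hdd (Finset.mem_filter.1 hχ).2
      (fun e => hno _ hmem (Nat.dvd_of_mod_eq_zero e)) with e | e | e | e | e | e <;>
      rw [e] at h5 ⊢ <;> rcases ha3 with q | q | q <;> rw [q] at h5 ⊢ <;>
      first | omega | norm_num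
  set F := R.filter fun χ => d χ = 4 with hF
  have hF3 : (F.card : ℤ) ≤ 3 := by
    refine le_trans ?_ hR3
    calc (F.card : ℤ) = ∑ χ ∈ F, (1 : ℤ) := by simp
      _ = ∑ χ ∈ F, a χ ^ 2 := Finset.sum_congr rfl fun χ hχ => by
        obtain ⟨h1, h2⟩ := Finset.mem_filter.1 hχ
        rcases hcl χ h1 with ⟨-, e⟩ | ⟨e, -⟩
        · exact e.symm
        · rw [h2] at e; norm_num at e
      _ ≤ ∑ χ ∈ R, a χ ^ 2 :=
        Finset.sum_le_sum_of_subset_of_nonneg (Finset.filter_subset _ _) fun _ _ _ => sq_nonneg _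
  have hrest : 25 ∣ ∑ χ ∈ R.filter (fun χ => ¬ d χ = 4), d χ ^ 2 :=
    Finset.dvd_sum fun χ hχ => by
      obtain ⟨h1, h2⟩ := Finset.mem_filter.1 hχ
      rcases hcl χ h1 with ⟨e, -⟩ | ⟨e, -⟩
      · exact absurd e h2
      · exact (show 25 = 5 ^ 2 by norm_num) ▸ pow_dvd_pow_of_dvd e 2
  have h1 := Finset.sum_filter_add_sum_filter_not Finset.univ (fun χ => d χ = 1) (fun χ => d χ ^ 2)
  have h2 := Finset.sum_filter_add_sum_filter_not R (fun χ => d χ = 4) (fun χ => d χ ^ 2)
  rw [hsq, ← hL, ← hR, Finset.sum_congr rfl (fun χ hχ => by rw [(Finset.mem_filter.1 hχ).2] :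
    ∀ χ ∈ L, d χ ^ 2 = 1 ^ 2), Finset.sum_const, hlin] at h1
  rw [← hF, Finset.sum_congr rfl (fun χ hχ => by rw [(Finset.mem_filter.1 hχ).2] :
    ∀ χ ∈ F, d χ ^ 2 = 4 ^ 2), Finset.sum_const, smul_eq_mul] at h2
  obtain ⟨w, hw⟩ := hrest
  simp only [smul_eq_mul] at h1
  omega

section Frame

variable {S : Type*} [Group S] [Finite S]

/-- A self-centralizing Sylow subgroup of prime order gives a degree, when there are enough classes. -/
theorem mem_degreePrimes_of_classes {p : ℕ} [hp : Fact p.Prime] (P : Sylow p S)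
    (hP : Nat.card (P : Subgroup S) = p)
    (hC : Subgroup.centralizer ((P : Subgroup S) : Set S) = (P : Subgroup S))
    (hperf : commutator S = ⊤) (l : List S) (hl : (l.map orderOf).Nodup)
    (hk : ∀ e t n : ℕ, 2 ≤ e → e * t + 1 = p → Nat.card S = e * p * (1 + n * p) → e + t < l.length) :
    p ∈ degreePrimes S := by
  classical
  have := Fintype.ofFinite S
  have := Fintype.ofFinite (IrrCharacter S)
  obtain ⟨a, e, t, n, F⟩ := CfsgLib.Perm.FewSylow.exists_frame P hP hC hperf
  obtain ⟨X, Y, εX, ε, -, -, -, hXc, hYc, -, -, -, -, -, -, hrest, -⟩ :=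
    CfsgLib.Perm.FewSylow.exists_values F
  have hlt : e + t < Nat.card (IrrCharacter S) := by
    refine lt_of_lt_of_le (hk e t n F.two F.et F.cardG) ?_
    rw [card_irrCharacter, ← List.length_map (f := orderOf), ← List.toFinset_card_of_nodup hl]
    calc (l.map orderOf).toFinset.card ≤ (l.toFinset.image ConjClasses.mk).card := by
          refine Finset.card_le_card_of_surjOn (fun C : ConjClasses S => orderOf C.out) ?_
          intro k hk'
          rw [Finset.mem_coe, List.mem_toFinset, List.mem_map] at hk'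
          obtain ⟨x, hx, rfl⟩ := hk'
          refine ⟨ConjClasses.mk x, Finset.mem_image_of_mem _ (List.mem_toFinset.2 hx), ?_⟩
          have h : IsConj (ConjClasses.mk x).out x :=
            ConjClasses.mk_eq_mk_iff_isConj.1 (Quotient.out_eq _)
          obtain ⟨c, hc⟩ := isConj_iff.1 h
          show orderOf (ConjClasses.mk x).out = orderOf x
          exact (CfsgLib.Perm.orderOf_conj_eq c _).symm.trans (congrArg orderOf hc)
      _ ≤ Nat.card (ConjClasses S) := by
          rw [Nat.card_eq_fintype_card]; exact Finset.card_le_univ _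
  obtain ⟨χ, hχ⟩ : ∃ χ, χ ∉ X ∪ Y := by
    by_contra hno
    push Not at hno
    have h1 := Finset.card_le_card (fun χ (_ : χ ∈ (Finset.univ : Finset (IrrCharacter S))) => hno χ)
    have h2 := Finset.card_union_le X Y
    rw [Finset.card_univ, ← Nat.card_eq_fintype_card] at h1
    omega
  have := Fintype.ofFinite (P : Subgroup S)
  obtain ⟨m, hm⟩ := CfsgLib.Perm.CharAverage.exists_sum_eq (P : Subgroup S) (IsIrr.isCharacter χ.2)
  rw [CfsgLib.Perm.FewSylow.sum_subgroup, hP, Finset.sum_eq_zero (fun x hx => hrest χ hχ x hx),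
    add_zero, ← cast_irrDegree χ] at hm
  exact ⟨hp.out, _, ⟨χ, rfl⟩, ⟨m, by exact_mod_cast hm⟩⟩

end Frame

section PSL

universe u
variable {S : Type u} [Group S] [Finite S] [IsSimpleGroup S]

/-- The orders realised by two-dimensional projective linear groups. -/
def pslTable : List (ℕ × ℕ) :=
  [(168, 7), (360, 9), (504, 8), (660, 11), (1092, 13), (2448, 17), (3420, 19), (4080, 16)]

theorem psl_degrees {q : ℕ} (h : (Nat.card S, q) ∈ pslTable) :
    (q ∈ charDegrees S ∧ q + 1 ∈ charDegrees S ∧ q - 1 ∈ charDegrees S) ∧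
      ∀ d ∈ charDegrees S, d = q ∨ d ∣ q + 1 ∨ d ∣ q - 1 := by
  have key : ∀ {F : Type} [Field F] [Fintype F], Fintype.card F = q → ¬ q - 1 ∣ 4 → ¬ q + 1 ∣ 4 →
      Nonempty (S ≃* Matrix.ProjectiveSpecialLinearGroup (Fin 2) F) →
      (q ∈ charDegrees S ∧ q + 1 ∈ charDegrees S ∧ q - 1 ∈ charDegrees S) ∧
        ∀ d ∈ charDegrees S, d = q ∨ d ∣ q + 1 ∨ d ∣ q - 1 := by
    intro F _ _ hF h1 h2 e
    subst hF
    exact CfsgLib.SL2Char.degrees_of_iso h1 h2 (Or.inl e)
  simp only [pslTable, List.mem_cons, Prod.mk.injEq, List.not_mem_nil, or_false] at h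
  rcases h with ⟨hn, rfl⟩ | ⟨hn, rfl⟩ | ⟨hn, rfl⟩ | ⟨hn, rfl⟩ | ⟨hn, rfl⟩ | ⟨hn, rfl⟩ | ⟨hn, rfl⟩ |
    ⟨hn, rfl⟩
  · haveI : Fact (Nat.Prime 7) := ⟨by norm_num⟩
    exact key (F := ZMod 7) (ZMod.card 7) (by decide) (by decide)
      (Cfsg.Agent.S0495.result hn (ZMod.card 7))
  · haveI : Fact (Nat.Prime 3) := ⟨Nat.prime_three⟩
    haveI := Fintype.ofFinite (GaloisField 3 2)
    have hF : Fintype.card (GaloisField 3 2) = 9 := by
      rw [← Nat.card_eq_fintype_card, GaloisField.card 3 2 (by norm_num)]; norm_num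
    obtain ⟨e⟩ := Cfsg.Agent.S0497.result hn
    obtain ⟨f⟩ := Cfsg.Agent.S0254.result hF
    exact key hF (by decide) (by decide) ⟨e.trans f.symm⟩
  · haveI : Fact (Nat.Prime 2) := ⟨Nat.prime_two⟩
    haveI := Fintype.ofFinite (GaloisField 2 3)
    have hF : Fintype.card (GaloisField 2 3) = 8 := by
      rw [← Nat.card_eq_fintype_card, GaloisField.card 2 3 (by norm_num)]; norm_num
    exact key hF (by decide) (by decide) (Cfsg.Agent.S1011.result hn hF)
  · haveI : Fact (Nat.Prime 11) := ⟨by norm_num⟩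
    exact key (F := ZMod 11) (ZMod.card 11) (by decide) (by decide)
      (Cfsg.Agent.S0498.result 11 (Or.inl rfl) (by rw [hn]; norm_num) (ZMod.card 11))
  · haveI : Fact (Nat.Prime 13) := ⟨by norm_num⟩
    exact key (F := ZMod 13) (ZMod.card 13) (by decide) (by decide)
      (Cfsg.Agent.S0498.result 13 (Or.inr rfl) (by rw [hn]; norm_num) (ZMod.card 13))
  · haveI : Fact (Nat.Prime 17) := ⟨by norm_num⟩
    exact key (F := ZMod 17) (ZMod.card 17) (by decide) (by decide)
      (Cfsg.Agent.S1020.result hn (ZMod.card 17))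
  · haveI : Fact (Nat.Prime 19) := ⟨by norm_num⟩
    exact key (F := ZMod 19) (ZMod.card 19) (by decide) (by decide)
      (Cfsg.Agent.S1021.result hn (ZMod.card 19))
  · haveI : Fact (Nat.Prime 2) := ⟨Nat.prime_two⟩
    haveI := Fintype.ofFinite (GaloisField 2 4)
    have hF : Fintype.card (GaloisField 2 4) = 16 := by
      rw [← Nat.card_eq_fintype_card, GaloisField.card 2 4 (by norm_num)]; norm_num
    exact key hF (by decide) (by decide) (Cfsg.Agent.S0981.result hn hF)

end PSL

section AltSeven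

theorem six_alt_seven : 6 ∈ charDegrees (alternatingGroup (Fin 7)) := by
  set A := alternatingGroup (Fin 7)
  haveI h5 := alternatingGroup.isMultiplyPretransitive (Fin 7)
  haveI : MulAction.IsMultiplyPretransitive A (Fin 7) 2 :=
    MulAction.isMultiplyPretransitive_of_le (n := Nat.card (Fin 7) - 2) (by simp) (by simp)
  haveI : MulAction.IsPretransitive A (Fin 7) :=
    MulAction.isPretransitive_of_is_two_pretransitive
  have h := (isIrrCharacter_permChar_sub_one_iff (G := A) (Fin 7) (by simp)).2 inferInstance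
  refine ⟨⟨_, h⟩, ?_⟩
  refine CfsgLib.SL2Char.charDegree_natCast (d := 6) ?_
  show permChar A (Fin 7) 1 - 1 = _
  simp only [permChar, MulAction.fixedBy_one_eq_univ]
  simp
  norm_num

variable {S : Type*} [Group S] [Finite S] [IsSimpleGroup S]

theorem alt_seven_primes (h : Nat.card S = 2520) :
    5 ∈ degreePrimes S ∧ 7 ∈ degreePrimes S ∧ 6 ∈ charDegrees S := by
  obtain ⟨e⟩ := Cfsg.Agent.S0984.result h
  refine ⟨?_, ?_, (charDegrees_congr e 6).2 six_alt_seven⟩
  all_goals
    have hperf : commutator S = ⊤ := CfsgLib.Perm.ThreePrimeOrder.perfect_of_nc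
      (CfsgLib.Perm.not_comm_of_not_prime (by rw [h]; norm_num))
    have h4 : ∃ x : alternatingGroup (Fin 7), orderOf x = 4 :=
      ⟨⟨Equiv.swap 0 1 * Equiv.swap 1 2 * Equiv.swap 2 3 * Equiv.swap 4 5, Equiv.Perm.mem_alternatingGroup.2 (by decide +kernel)⟩,
        orderOf_eq_prime_pow (p := 2) (n := 1) (by decide +kernel) (by decide +kernel)⟩
    obtain ⟨x4, hx4⟩ := h4
    have hx4' : orderOf (e.symm x4) = 4 := by rw [MulEquiv.orderOf_eq, hx4]
    haveI : Fact (Nat.Prime 2) := ⟨Nat.prime_two⟩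
    haveI : Fact (Nat.Prime 3) := ⟨Nat.prime_three⟩
    haveI : Fact (Nat.Prime 5) := ⟨by norm_num⟩
    haveI : Fact (Nat.Prime 7) := ⟨by norm_num⟩
    obtain ⟨x2, hx2⟩ := exists_prime_orderOf_dvd_card' (G := S) 2 (by rw [h]; norm_num)
    obtain ⟨x3, hx3⟩ := exists_prime_orderOf_dvd_card' (G := S) 3 (by rw [h]; norm_num)
    obtain ⟨x5, hx5⟩ := exists_prime_orderOf_dvd_card' (G := S) 5 (by rw [h]; norm_num)
    obtain ⟨x7, hx7⟩ := exists_prime_orderOf_dvd_card' (G := S) 7 (by rw [h]; norm_num)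
    have hl : ([1, x2, x3, e.symm x4, x5, x7].map orderOf).Nodup := by
      simp [hx2, hx3, hx4', hx5, hx7]
  · let c : alternatingGroup (Fin 7) :=
      ⟨Equiv.swap 0 1 * Equiv.swap 1 2 * Equiv.swap 2 3 * Equiv.swap 3 4,
        Equiv.Perm.mem_alternatingGroup.2 (by decide +kernel)⟩
    have hco : orderOf (e.symm c) = 5 := by
      rw [MulEquiv.orderOf_eq]; exact orderOf_eq_prime (by decide +kernel) (by decide +kernel)
    obtain ⟨P, hP⟩ := CfsgLib.Perm.exists_mem_sylow_of_orderOf (p := 5) (k := 1) (g := e.symm c)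
      (by rw [hco]; rfl)
    have hPc : Nat.card (P : Subgroup S) = 5 := by
      rw [CfsgLib.Perm.sylow_card_eq P (k := 1) (m := 504) (by rw [h]; norm_num) (by norm_num), pow_one]
    refine mem_degreePrimes_of_classes P hPc ?_ hperf _ hl ?_
    · refine le_antisymm ?_ ?_
      · intro x hx
        have hcm : Commute (e x) c := by
          have := (Subgroup.mem_centralizer_iff.1 hx _ hP)
          have h' := congrArg e this
          simp only [map_mul, MulEquiv.apply_symm_apply] at h'
          exact h'.symm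
        set C := Subgroup.centralizer ({(c : Equiv.Perm (Fin 7))} : Set (Equiv.Perm (Fin 7))) with hC
        have hCc : Nat.card C = 10 := by
          rw [hC, Equiv.Perm.nat_card_centralizer]; decide +kernel
        set D := C ⊓ alternatingGroup (Fin 7) with hD
        have hsw : (Equiv.swap 5 6 : Equiv.Perm (Fin 7)) ∈ C :=
          Subgroup.mem_centralizer_singleton_iff.2 (by decide +kernel)
        have hswD : (Equiv.swap 5 6 : Equiv.Perm (Fin 7)) ∉ D := fun h' =>
          absurd (Equiv.Perm.mem_alternatingGroup.1 h'.2) (by decide +kernel)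
        have hcD : (c : Equiv.Perm (Fin 7)) ∈ D := ⟨Subgroup.mem_centralizer_singleton_iff.2 rfl, c.2⟩
        have hd := Subgroup.card_dvd_of_le (inf_le_left : D ≤ C)
        rw [hCc] at hd
        have h5 := Subgroup.orderOf_dvd_natCard D hcD
        rw [Subgroup.orderOf_coe, ← e.symm.orderOf_eq, hco] at h5
        have hD5 : Nat.card D = 5 := by
          have : Nat.card D ≠ 10 := fun e' => hswD ((Subgroup.eq_of_le_of_card_ge inf_le_left
            (by rw [hCc, e']) : D = C) ▸ hsw)
          obtain ⟨k, hk⟩ := h5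
          rw [hk] at hd this ⊢
          have hk2 : k ∣ 2 := (Nat.mul_dvd_mul_iff_left (by norm_num : 0 < 5)).1 hd
          rcases (Nat.dvd_prime Nat.prime_two).1 hk2 with r | r <;> omega
        have hz : Subgroup.zpowers (c : Equiv.Perm (Fin 7)) = D :=
          Subgroup.eq_of_le_of_card_ge (Subgroup.zpowers_le.2 hcD)
            (by rw [hD5, Nat.card_zpowers, Subgroup.orderOf_coe, ← e.symm.orderOf_eq, hco])
        have hxD : ((e x : alternatingGroup (Fin 7)) : Equiv.Perm (Fin 7)) ∈ D :=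
          ⟨Subgroup.mem_centralizer_singleton_iff.2 (congrArg Subtype.val hcm.eq), (e x).2⟩
        rw [← hz, Subgroup.mem_zpowers_iff] at hxD
        obtain ⟨k, hk⟩ := hxD
        have hx' : x = e.symm c ^ k := by
          rw [← map_zpow]; exact (e.symm_apply_eq.2 (Subtype.ext (by simpa using hk) : c ^ k = e x)).symm
        rw [hx']; exact zpow_mem hP k
      · haveI : IsCyclic (P : Subgroup S) := isCyclic_of_prime_card hPc
        intro x hx
        rw [Subgroup.mem_centralizer_iff]
        intro y hy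
        exact congrArg Subtype.val (IsMulCommutative.is_comm.comm (⟨y, hy⟩ : (P : Subgroup S)) ⟨x, hx⟩)
    · intro e' t n h2 het hc
      have he4 : e' ≤ 4 := by
        rcases Nat.eq_zero_or_pos t with r | r <;> nlinarith
      simp only [List.length_cons, List.length_nil]
      interval_cases e' <;> omega
  · let c : alternatingGroup (Fin 7) :=
      ⟨Equiv.swap 0 1 * Equiv.swap 1 2 * Equiv.swap 2 3 * Equiv.swap 3 4 * Equiv.swap 4 5 *
        Equiv.swap 5 6, Equiv.Perm.mem_alternatingGroup.2 (by decide +kernel)⟩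
    have hco : orderOf (e.symm c) = 7 := by
      rw [MulEquiv.orderOf_eq]; exact orderOf_eq_prime (by decide +kernel) (by decide +kernel)
    obtain ⟨P, hP⟩ := CfsgLib.Perm.exists_mem_sylow_of_orderOf (p := 7) (k := 1) (g := e.symm c)
      (by rw [hco]; rfl)
    have hPc : Nat.card (P : Subgroup S) = 7 := by
      rw [CfsgLib.Perm.sylow_card_eq P (k := 1) (m := 360) (by rw [h]; norm_num) (by norm_num), pow_one]
    refine mem_degreePrimes_of_classes P hPc ?_ hperf _ hl ?_
    · refine le_antisymm ?_ ?_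
      · intro x hx
        have hcm : Commute (e x) c := by
          have := (Subgroup.mem_centralizer_iff.1 hx _ hP)
          have h' := congrArg e this
          simp only [map_mul, MulEquiv.apply_symm_apply] at h'
          exact h'.symm
        set C := Subgroup.centralizer ({(c : Equiv.Perm (Fin 7))} : Set (Equiv.Perm (Fin 7))) with hC
        have hCc : Nat.card C = 7 := by
          rw [hC, Equiv.Perm.nat_card_centralizer]; decide +kernel
        have hz : Subgroup.zpowers (c : Equiv.Perm (Fin 7)) = C :=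
          Subgroup.eq_of_le_of_card_ge
            (Subgroup.zpowers_le.2 (Subgroup.mem_centralizer_singleton_iff.2 rfl))
            (by rw [hCc, Nat.card_zpowers, Subgroup.orderOf_coe, ← e.symm.orderOf_eq, hco])
        have hxC : ((e x : alternatingGroup (Fin 7)) : Equiv.Perm (Fin 7)) ∈ C :=
          Subgroup.mem_centralizer_singleton_iff.2 (congrArg Subtype.val hcm.eq)
        rw [← hz, Subgroup.mem_zpowers_iff] at hxC
        obtain ⟨k, hk⟩ := hxC
        have hx' : x = e.symm c ^ k := by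
          rw [← map_zpow]; exact (e.symm_apply_eq.2 (Subtype.ext (by simpa using hk) : c ^ k = e x)).symm
        rw [hx']; exact zpow_mem hP k
      · haveI : IsCyclic (P : Subgroup S) := isCyclic_of_prime_card hPc
        intro x hx
        rw [Subgroup.mem_centralizer_iff]
        intro y hy
        exact congrArg Subtype.val (IsMulCommutative.is_comm.comm (⟨y, hy⟩ : (P : Subgroup S)) ⟨x, hx⟩)
    · intro e' t n h2 het hc
      simp only [List.length_cons, List.length_nil]
      rw [h] at hc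
      have he7 : e' ≤ 7 := by
        by_contra hlt
        rcases Nat.eq_zero_or_pos t with r | r <;> nlinarith
      have ht7 : t ≤ 7 := by nlinarith
      interval_cases e' <;> interval_cases t <;> omega

end AltSeven

section Order5616

variable {S : Type*} [Group S] [Finite S] [IsSimpleGroup S]

open CfsgLib.Recog.LThreeThree5616 in
theorem primes_5616 (h : Nat.card S = 5616) : 3 ∈ degreePrimes S ∧ 13 ∈ degreePrimes S := by
  classical
  have := Fintype.ofFinite S
  have := Fintype.ofFinite (IrrCharacter S)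
  obtain ⟨P, A, B, Y, K⟩ := exists_block h
  refine ⟨⟨Nat.prime_three, 27, ⟨B, K.degB⟩, by norm_num⟩, ?_⟩
  haveI : Fact (Nat.Prime 13) := ⟨by norm_num⟩
  obtain ⟨χ, h1, h2, h3, h4⟩ : ∃ χ : IrrCharacter S, χ ≠ trivChar S ∧ χ ≠ A ∧ χ ≠ B ∧ χ ∉ Y := by
    by_contra hno
    push Not at hno
    have hall : (Finset.univ : Finset (IrrCharacter S)) = insert (trivChar S) (insert A (insert B Y)) := by
      refine (Finset.eq_univ_iff_forall.2 fun χ => ?_).symm
      simp only [Finset.mem_insert]
      by_cases a1 : χ = trivChar S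
      · exact Or.inl a1
      by_cases a2 : χ = A
      · exact Or.inr (Or.inl a2)
      by_cases a3 : χ = B
      · exact Or.inr (Or.inr (Or.inl a3))
      exact Or.inr (Or.inr (Or.inr (hno χ a1 a2 a3)))
    have hsum : ∑ χ : IrrCharacter S, charDegree (χ : S → ℂ) ^ 2 = 5616 := by
      rw [← Nat.cast_inj (R := ℂ), ← h, ← sum_sq_degree, Nat.cast_sum]
      exact Finset.sum_congr rfl fun χ _ => by rw [Nat.cast_pow, cast_irrDegree]
    rw [hall, sum_block K, K.degA, K.degB, Finset.sum_congr rfl (fun θ hθ => by rw [K.degY θ hθ] :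
      ∀ θ ∈ Y, charDegree (θ : S → ℂ) ^ 2 = 16 ^ 2), Finset.sum_const, K.cardY,
      show charDegree ((trivChar S : IrrCharacter S) : S → ℂ) = 1 by simp [charDegree]] at hsum
    norm_num at hsum
  have := Fintype.ofFinite (P : Subgroup S)
  obtain ⟨m, hm⟩ := CfsgLib.Perm.CharAverage.exists_sum_eq (P : Subgroup S) (IsIrr.isCharacter χ.2)
  rw [CfsgLib.Perm.FewSylow.sum_subgroup, K.cardP, Finset.sum_eq_zero (fun x hx =>
      K.rest χ h1 h2 h3 h4 x (CfsgLib.Perm.FewSylow.mem_star.1 hx).2
        (CfsgLib.Perm.FewSylow.mem_star.1 hx).1), add_zero, ← cast_irrDegree χ] at hm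
  exact ⟨by norm_num, _, ⟨χ, rfl⟩, ⟨m, by exact_mod_cast hm⟩⟩

end Order5616

end CfsgLib.CharDegree.SmallSimple
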