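import Cfsg.Agent.Lib.CharDegree.SmallSimple.Reduction
import Cfsg.Agent.Lib.Perm.SimpleOrders.GapRange
import Cfsg.Agent.S3669

/-!
# Small simple groups are determined by order and degree graph
-/

set_option autoImplicit false

namespace CfsgLib.CharDegree.SmallSimple

open Cfsg CfsgLib.Char CfsgLib.CharDegree Subgroup

/-- Simple groups of the same order on the list are isomorphic. -/
theorem nonempty_mulEquiv_of_card {G S : Type*} [Group G] [Finite G] [IsSimpleGroup G] [Group S] [Finite S]
    [IsSimpleGroup S] (hG : Nat.card G = Nat.card S)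
    (hn : Nat.card S ∈ [168, 360, 504, 660, 1092, 2448, 2520, 3420, 4080, 5616]) : Nonempty (G ≃* S) := by
  have two : ∀ {H : Type} [Group H], Nonempty (G ≃* H) → Nonempty (S ≃* H) → Nonempty (G ≃* S) := by
    rintro H _ ⟨e⟩ ⟨f⟩
    exact ⟨e.trans f.symm⟩
  simp only [List.mem_cons, List.not_mem_nil, or_false] at hn
  rcases hn with h | h | h | h | h | h | h | h | h | h <;> rw [h] at hG
  · haveI : Fact (Nat.Prime 7) := ⟨by norm_num⟩
    exact two (Cfsg.Agent.S0495.result hG (ZMod.card 7)) (Cfsg.Agent.S0495.result h (ZMod.card 7))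
  · exact two (Cfsg.Agent.S0497.result hG) (Cfsg.Agent.S0497.result h)
  · haveI : Fact (Nat.Prime 2) := ⟨Nat.prime_two⟩
    haveI := Fintype.ofFinite (GaloisField 2 3)
    have hF : Fintype.card (GaloisField 2 3) = 8 := by
      rw [← Nat.card_eq_fintype_card, GaloisField.card 2 3 (by norm_num)]; norm_num
    exact two (Cfsg.Agent.S1011.result hG hF) (Cfsg.Agent.S1011.result h hF)
  · haveI : Fact (Nat.Prime 11) := ⟨by norm_num⟩
    exact two (Cfsg.Agent.S0498.result 11 (Or.inl rfl) (by rw [hG]; norm_num) (ZMod.card 11))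
      (Cfsg.Agent.S0498.result 11 (Or.inl rfl) (by rw [h]; norm_num) (ZMod.card 11))
  · haveI : Fact (Nat.Prime 13) := ⟨by norm_num⟩
    exact two (Cfsg.Agent.S0498.result 13 (Or.inr rfl) (by rw [hG]; norm_num) (ZMod.card 13))
      (Cfsg.Agent.S0498.result 13 (Or.inr rfl) (by rw [h]; norm_num) (ZMod.card 13))
  · haveI : Fact (Nat.Prime 17) := ⟨by norm_num⟩
    exact two (Cfsg.Agent.S1020.result hG (ZMod.card 17)) (Cfsg.Agent.S1020.result h (ZMod.card 17))
  · exact two (Cfsg.Agent.S0984.result hG) (Cfsg.Agent.S0984.result h)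
  · haveI : Fact (Nat.Prime 19) := ⟨by norm_num⟩
    exact two (Cfsg.Agent.S1021.result hG (ZMod.card 19)) (Cfsg.Agent.S1021.result h (ZMod.card 19))
  · haveI : Fact (Nat.Prime 2) := ⟨Nat.prime_two⟩
    haveI := Fintype.ofFinite (GaloisField 2 4)
    have hF : Fintype.card (GaloisField 2 4) = 16 := by
      rw [← Nat.card_eq_fintype_card, GaloisField.card 2 4 (by norm_num)]; norm_num
    exact two (Cfsg.Agent.S0981.result hG hF) (Cfsg.Agent.S0981.result h hF)
  · exact CfsgLib.Recog.LThreeThree5616.nonempty_mulEquiv hG h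

/-- The degree primes of a simple group on the list which the reduction needs. -/
theorem degree_primes_facts {S : Type*} [Group S] [Finite S] [IsSimpleGroup S] {r p : ℕ}
    (htab : (Nat.card S, r, p) ∈ cyclicTable) :
    r.Prime ∧ r ∈ degreePrimes S ∧ (p ≠ 0 → p ∈ degreePrimes S) := by
  simp only [cyclicTable, List.mem_cons, Prod.mk.injEq, List.not_mem_nil, or_false] at htab
  have hP : ∀ {q : ℕ}, (Nat.card S, q) ∈ pslTable → ∀ t, t.Prime → t ∣ q * ((q + 1) * (q - 1)) →
      t ∈ degreePrimes S := by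
    intro q hq t ht hd
    obtain ⟨⟨a, b, c⟩, -⟩ := psl_degrees hq
    rcases ht.dvd_mul.1 hd with h | h
    · exact ⟨ht, _, a, h⟩
    rcases ht.dvd_mul.1 h with h | h
    exacts [⟨ht, _, b, h⟩, ⟨ht, _, c, h⟩]
  rcases htab with h | h | h | h | h | h | h | h | h | h <;> obtain ⟨hn, rfl, rfl⟩ := h
  · exact ⟨by norm_num, hP (q := 7) (by rw [hn]; decide) 7 (by norm_num) (by norm_num),
      fun _ => hP (q := 7) (by rw [hn]; decide) 2 Nat.prime_two (by norm_num)⟩
  · exact ⟨by norm_num, hP (q := 9) (by rw [hn]; decide) 5 (by norm_num) (by norm_num),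
      fun h => absurd rfl h⟩
  · exact ⟨by norm_num, hP (q := 8) (by rw [hn]; decide) 7 (by norm_num) (by norm_num),
      fun _ => hP (q := 8) (by rw [hn]; decide) 2 Nat.prime_two (by norm_num)⟩
  · exact ⟨by norm_num, hP (q := 11) (by rw [hn]; decide) 11 (by norm_num) (by norm_num),
      fun h => absurd rfl h⟩
  · exact ⟨by norm_num, hP (q := 13) (by rw [hn]; decide) 13 (by norm_num) (by norm_num),
      fun h => absurd rfl h⟩
  · exact ⟨by norm_num, hP (q := 17) (by rw [hn]; decide) 17 (by norm_num) (by norm_num),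
      fun h => absurd rfl h⟩
  · exact ⟨by norm_num, (alt_seven_primes hn).2.1,
      fun _ => ⟨Nat.prime_two, 6, (alt_seven_primes hn).2.2, by norm_num⟩⟩
  · exact ⟨by norm_num, hP (q := 19) (by rw [hn]; decide) 19 (by norm_num) (by norm_num),
      fun h => absurd rfl h⟩
  · exact ⟨by norm_num, hP (q := 16) (by rw [hn]; decide) 17 (by norm_num) (by norm_num),
      fun h => absurd rfl h⟩
  · exact ⟨by norm_num, (primes_5616 hn).2, fun _ => (primes_5616 hn).1⟩

theorem exists_top {n : ℕ} (hn : n ∈ [168, 360, 504, 660, 1092, 2448, 2520, 3420, 4080, 5616]) :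
    ∃ r p, (n, r, p) ∈ cyclicTable := by
  simp only [List.mem_cons, List.not_mem_nil, or_false] at hn
  rcases hn with rfl | rfl | rfl | rfl | rfl | rfl | rfl | rfl | rfl | rfl <;>
    simp [cyclicTable]

/-- The possible orders of a simple section containing the largest prime. -/
theorem section_orders : ∀ e ∈ cyclicTable, ∀ a ∈ [60, 168, 360, 504, 660, 1092, 2448, 2520, 3420, 4080, 5616],
    e.2.1 ∣ a → a ∣ e.1 →
      a = e.1 ∨ (e.1, a) ∈ [(360, 60), (504, 168), (2520, 168), (2520, 504)] := by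
  decide +kernel

theorem table_sq : ∀ e ∈ cyclicTable, ¬ e.2.1 * e.2.1 ∣ e.1 := by decide +kernel

/-- A group with the order and degree graph of a small simple group is isomorphic to it. -/
theorem nonempty_mulEquiv_of_graph {S : Type*} [Group S] [Finite S] [IsSimpleGroup S]
    (hS : ¬ IsMulCommutative S) (hlt : Nat.card S < 6000) {G : Type*} [Group G] [Finite G]
    (hcard : Nat.card G = Nat.card S)
    (hΓ : degreePrimes G = degreePrimes S ∧ degreeGraph G = degreeGraph S) : Nonempty (G ≃* S) := by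
  have hlist := CfsgLib.Perm.SimpleOrders.orders_lt_six_thousand hS hlt
  rcases List.mem_cons.1 hlist with h60 | hn
  · obtain ⟨e⟩ := Cfsg.Agent.S0494.result h60
    have hcd := charDegrees_congr e
    have h1 : degreePrimes S = degreePrimes (alternatingGroup (Fin 5)) := by
      ext q
      exact and_congr_right fun _ => exists_congr fun d => and_congr_left fun _ => hcd d
    have h2 : degreeGraph S = degreeGraph (alternatingGroup (Fin 5)) := by
      ext a b
      exact and_congr_right fun _ => and_congr_right fun _ => and_congr_right fun _ =>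
        exists_congr fun d => and_congr_left fun _ => hcd d
    obtain ⟨f⟩ := Cfsg.Agent.S3669.result (G := G) (by rw [hcard, h60]) ⟨hΓ.1.trans h1, hΓ.2.trans h2⟩
    exact ⟨f.trans e.symm⟩
  obtain ⟨r, p, htab⟩ := exists_top hn
  obtain ⟨hr, hrS, hpS⟩ := degree_primes_facts htab
  have htabG : (Nat.card G, r, p) ∈ cyclicTable := hcard ▸ htab
  have hrG : r ∈ degreePrimes G := hΓ.1 ▸ hrS
  have hpG : p ≠ 0 → p ∈ degreePrimes G := fun h => hΓ.1 ▸ hpS h
  have hrd : r ∣ Nat.card G := (table_facts _ htabG).1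
  have hr2 : ¬ r * r ∣ Nat.card G := table_sq _ htabG
  have hedge : ∀ a b : ℕ, a.Prime → b.Prime → a ≠ b →
      ((∃ d ∈ charDegrees G, a * b ∣ d) ↔ ∃ d ∈ charDegrees S, a * b ∣ d) := by
    intro a b ha hb hab
    have h : (degreeGraph G).Adj a b ↔ (degreeGraph S).Adj a b := by rw [hΓ.2]
    exact ⟨fun hd => (h.1 ⟨hab, ha, hb, hd⟩).2.2.2, fun hd => (h.2 ⟨hab, ha, hb, hd⟩).2.2.2⟩
  obtain ⟨T, hTn, hTs, hrT, hN, hmax⟩ := exists_section hr hrd hr2
  set N := pPrimeCore r G with hNdef
  haveI := hTn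
  haveI := hTs
  have hQ := Subgroup.card_eq_card_quotient_mul_card_subgroup N
  by_cases hab : IsMulCommutative T
  · exfalso
    haveI := hab
    have hp : (Nat.card T).Prime := Group.is_simple_iff_prime_card.1 hTs
    have hTr : Nat.card T = r := ((Nat.prime_dvd_prime_iff_eq hr hp).1 hrT).symm
    set M := T.comap (QuotientGroup.mk' N) with hM
    haveI : M.Normal := hTn.comap _
    have hle : N ≤ M := fun x hx => by
      rw [hM, mem_comap, QuotientGroup.mk'_apply, (QuotientGroup.eq_one_iff x).2 hx]; exact one_mem T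
    have hcM : Nat.card M = r * Nat.card N := by
      have h1 := M.card_mul_index
      rw [hM, index_comap_of_surjective _ (QuotientGroup.mk'_surjective N), ← hM] at h1
      have h3 := T.card_mul_index
      apply Nat.eq_of_mul_eq_mul_right (Nat.pos_of_ne_zero T.index_ne_zero_of_finite)
      rw [h1, hQ, ← h3, hTr]
      ring
    exact false_of_cyclic hr htabG hrG hpG N M hle hcM hN
  have hTG : Nat.card T ∣ Nat.card G := T.card_subgroup_dvd_card.trans ⟨_, hQ⟩
  have hTlist := CfsgLib.Perm.SimpleOrders.orders_lt_six_thousand hab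
    (lt_of_le_of_lt (Nat.le_of_dvd Nat.card_pos hTG) (hcard ▸ hlt))
  rcases section_orders _ htabG _ hTlist hrT hTG with hall | hsmall
  · -- `G` is simple
    dsimp only at hall
    have hQT : Nat.card (G ⧸ N) = Nat.card G ∧ Nat.card N = 1 := by
      obtain ⟨c, hc⟩ := T.card_subgroup_dvd_card
      rw [hc, hall] at hQ
      have h1 : c * Nat.card N = 1 := by
        apply Nat.eq_of_mul_eq_mul_left (Nat.card_pos (α := G))
        rw [mul_one, ← mul_assoc]; exact hQ.symm
      have hc1 : c = 1 := Nat.eq_one_of_mul_eq_one_right h1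
      have hN1 : Nat.card N = 1 := Nat.eq_one_of_mul_eq_one_left h1
      exact ⟨by rw [hc, hall, hc1, mul_one], hN1⟩
    have hTtop : T = ⊤ := Subgroup.eq_top_of_card_eq _ (by rw [hall, hQT.1])
    haveI : IsSimpleGroup (G ⧸ N) := by
      have : IsSimpleGroup (⊤ : Subgroup (G ⧸ N)) := hTtop ▸ hTs
      exact MulEquiv.isSimpleGroup (Subgroup.topEquiv).symm
    haveI : IsSimpleGroup G := MulEquiv.isSimpleGroup
      ((QuotientGroup.quotientMulEquivOfEq (Subgroup.card_eq_one.1 hQT.2)).trans QuotientGroup.quotientBot).symm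
    exact nonempty_mulEquiv_of_card hcard hn
  exfalso
  have hnab : ¬ IsMulCommutative T := hab
  have hC := centralizer_eq_bot hr T hrT hnab (fun h => hr2 (h.trans ⟨_, hQ⟩)) hmax
  simp only [List.mem_cons, Prod.mk.injEq, List.not_mem_nil, or_false] at hsmall
  rcases hsmall with ⟨hG, hT⟩ | ⟨hG, hT⟩ | ⟨hG, hT⟩ | ⟨hG, hT⟩
  · obtain ⟨⟨-, h10, -⟩, hall⟩ := psl_degrees (S := S) (q := 9) (by rw [← hcard, hG]; decide)
    refine false_360 hG (fun d hd h6 => ?_)
      ((hedge 2 5 Nat.prime_two (by norm_num) (by norm_num)).2 ⟨_, h10, by norm_num⟩) N T hT hC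
    obtain ⟨d', hd', h6'⟩ := (hedge 2 3 Nat.prime_two Nat.prime_three (by norm_num)).1 ⟨d, hd, h6⟩
    rcases hall d' hd' with e | e | e
    · rw [e] at h6'; norm_num at h6'
    · have := h6'.trans e; norm_num at this
    · have := h6'.trans e; norm_num at this
  · obtain ⟨-, hall⟩ := psl_degrees (S := S) (q := 8) (by rw [← hcard, hG]; decide)
    obtain ⟨⟨-, -, h6⟩, -⟩ := psl_degrees (S := T) (q := 7) (by rw [hT]; decide)
    obtain ⟨d, hd, h6d⟩ := exists_dvd_of_section N T h6
    obtain ⟨d', hd', h6'⟩ := (hedge 2 3 Nat.prime_two Nat.prime_three (by norm_num)).1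
      ⟨d, hd, by simpa using h6d⟩
    rcases hall d' hd' with e | e | e
    · rw [e] at h6'; norm_num at h6'
    · have := h6'.trans e; norm_num at this
    · have := h6'.trans e; norm_num at this
  all_goals
    obtain ⟨h5, -, h6⟩ := alt_seven_primes (S := S) (by rw [← hcard, hG])
    exact false_2520 hG (hΓ.1 ▸ h5)
      ((hedge 2 3 Nat.prime_two Nat.prime_three (by norm_num)).2 ⟨6, h6, by norm_num⟩) N T
      (by first | exact Or.inl hT | exact Or.inr hT) hC

end CfsgLib.CharDegree.SmallSimple
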